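import Groth.Agent.SmAcyc.FibreTensor
import Groth.Agent.Hensel.IntegralStrict
import Groth.Agent.Hensel.TensorStrict
import Groth.Agent.Hensel.HenselizationProps
import Groth.Agent.IndEtLib.Sys
import Groth.Agent.MorLib.RingUnivHomeo
import Groth.Agent.S0642
import Groth.Agent.S0733
import Mathlib.RingTheory.PolynomialAlgebra
import Mathlib.RingTheory.Unramified.LocalStructure

/-!
# The henselian affine line over a henselian base
-/

set_option autoImplicit false
set_option linter.style.haveILetI false
set_option backward.isDefEq.respectTransparency.types false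

universe u

open CategoryTheory CategoryTheory.Limits AlgebraicGeometry Opposite IsLocalRing TensorProduct Polynomial

namespace Groth.Agent.SmAcyc

open Groth.Agent.EtFound

/-- a local ind-étale algebra over a henselian local ring is integral -/
theorem isIntegral_of_indEtale_local {A A' : Type u} [CommRing A] [HenselianLocalRing A] [CommRing A']
    [IsLocalRing A'] [Algebra A A'] [IsLocalHom (algebraMap A A')] (h : EtPBC.IsIndEtale A A') :
    Algebra.IsIntegral A A' := ⟨fun z => by
  obtain ⟨S, hS, ⟨e⟩⟩ := IndEtLib.exists_sys h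
  obtain ⟨j, y, hy⟩ := S.surj (e.symm z)
  haveI : Algebra.Etale A (S.A j) := hS j
  let χ : S.A j →ₐ[A] A' := e.toAlgHom.comp (S.ι j)
  refine Groth.Agent.Hensel.isIntegral_mul_inv_of_stage χ y 1 z (by rw [map_one]; exact isUnit_one) ?_
  rw [map_one, mul_one]
  exact ((congrArg e hy).trans (e.apply_symm_apply z)).symm⟩

/-- universal homeomorphisms do not change acyclicity of a scheme -/
theorem isAcyclicSchemeN_of_universalHomeomorph {L : Set ℕ} {n : ℕ} {X₀ X : Scheme.{u}} (i : X₀ ⟶ X)
    [IsIntegralHom i] [UniversallyInjective i] [Surjective i] (h : EtAcyc.IsAcyclicSchemeN L n X₀) :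
    EtAcyc.IsAcyclicSchemeN L n X := by
  obtain ⟨hne, hconn, hv⟩ := h
  refine ⟨hne.map i, i.surjective.connectedSpace i.continuous, fun ℓ hℓ hℓL q h1 h2 => ?_⟩
  haveI := pull_preservesFiniteLimits i
  haveI : Subsingleton (EtCoh.H X₀ (EtCoh.const X₀ (ZMod ℓ)) q) := hv ℓ hℓ hℓL q h1 h2
  haveI : Subsingleton (EtCoh.H X₀ ((EtCoh.pull i).obj (EtCoh.const X (ZMod ℓ))) q) :=
    (EtBC.hmap_bijective_of_isIso (EtCore.pullConst i (ZMod ℓ)).hom q).1.subsingleton
  exact (S0642.result i (EtCoh.const X (ZMod ℓ)) q).1.subsingleton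

/-- purely inseparable field extensions -/
theorem radicial_of_isPurelyInseparable (F E : Type u) [Field F] [Field E] [Algebra F E] [IsPurelyInseparable F E] :
    Groth.Agent.MorLib.RUH.Radicial (algebraMap F E) := fun K _ f g hfg => RingHom.ext fun x => by
  haveI : ExpChar F (ringExpChar F) := inferInstance
  haveI : ExpChar K (ringExpChar F) := expChar_of_injective_ringHom (f.comp (algebraMap F E)).injective _
  obtain ⟨m, c, hc⟩ := IsPurelyInseparable.pow_mem F (ringExpChar F) x
  refine iterateFrobenius_inj K (ringExpChar F) m ?_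
  rw [iterateFrobenius_def, iterateFrobenius_def, ← map_pow, ← map_pow, ← hc]
  exact RingHom.congr_fun hfg c

section tensor

variable {A A' B : Type u} [CommRing A] [HenselianLocalRing A] [CommRing A'] [IsLocalRing A'] [Algebra A A']
  [IsLocalHom (algebraMap A A')] [Algebra.IsIntegral A A'] [IsSepClosed (ResidueField A')]
  [CommRing B] [HenselianLocalRing B] [Algebra A B] [IsLocalHom (algebraMap A B)]

/-- the base change of a henselian algebra with trivial residue extension to an integral local algebra -/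
theorem tensor_strictlyHenselian (hres : ∀ b : B, ∃ a : A, b - algebraMap A B a ∈ maximalIdeal B) :
    ∃ (_ : HenselianLocalRing (A' ⊗[A] B)), IsSepClosed (ResidueField (A' ⊗[A] B)) ∧
      IsLocalHom (algebraMap A' (A' ⊗[A] B)) := by
  let J := Groth.Agent.Hensel.tensorMax A A' B
  let iL : A' →ₐ[A] A' ⊗[A] B := Algebra.TensorProduct.includeLeft
  haveI hnt : Nontrivial ((A' ⊗[A] B) ⧸ J) := Ideal.Quotient.nontrivial_iff.2 (Groth.Agent.Hensel.tensorMax_ne_top A A' B)
  have hm : ∀ a ∈ maximalIdeal A', (Ideal.Quotient.mk J) (iL a) = 0 := fun a ha =>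
    Ideal.Quotient.eq_zero_iff_mem.2 (Ideal.mem_sup_left (Ideal.mem_map_of_mem _ ha))
  let ν : ResidueField A' →+* (A' ⊗[A] B) ⧸ J :=
    Ideal.Quotient.lift (maximalIdeal A') ((Ideal.Quotient.mk J).comp iL.toRingHom) hm
  have hν : Function.Surjective ν := fun w => by
    obtain ⟨t, rfl⟩ := Ideal.Quotient.mk_surjective w
    induction t with
    | zero => exact ⟨0, by rw [map_zero, map_zero]⟩
    | tmul a b =>
      obtain ⟨c, hc⟩ := hres b
      refine ⟨residue A' (a * algebraMap A A' c), ?_⟩
      show Ideal.Quotient.mk J (iL (a * algebraMap A A' c)) = Ideal.Quotient.mk J (a ⊗ₜ b)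
      refine (Ideal.Quotient.eq.2 ?_).symm
      have h1 : ((1 : A') ⊗ₜ[A] (b - algebraMap A B c) : A' ⊗[A] B) ∈ J :=
        Ideal.mem_sup_right (Ideal.mem_map_of_mem
          (Algebra.TensorProduct.includeRight : B →ₐ[A] A' ⊗[A] B).toRingHom hc)
      have h2 : (a ⊗ₜ[A] b : A' ⊗[A] B) - iL (a * algebraMap A A' c) =
          iL a * ((1 : A') ⊗ₜ[A] (b - algebraMap A B c)) := by
        simp only [iL, Algebra.TensorProduct.includeLeft_apply, TensorProduct.tmul_sub, mul_sub,
          Algebra.TensorProduct.tmul_mul_tmul, mul_one, one_mul]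
        congr 1
        rw [Algebra.algebraMap_eq_smul_one (A := B), TensorProduct.tmul_smul, TensorProduct.smul_tmul', Algebra.smul_def,
          mul_comm a]
      rw [h2]
      exact J.mul_mem_left _ h1
    | add x y hx hy =>
      obtain ⟨x', hx'⟩ := hx
      obtain ⟨y', hy'⟩ := hy
      exact ⟨x' + y', by rw [map_add, hx', hy', map_add]⟩
  let e := RingEquiv.ofBijective ν ⟨ν.injective, hν⟩
  have hJ : J.IsMaximal := Ideal.Quotient.maximal_of_isField J
    (MulEquiv.isField (Field.toIsField (ResidueField A')) e.symm.toMulEquiv)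
  haveI hloc : IsLocalRing (A' ⊗[A] B) := IsLocalRing.of_unique_max_ideal ⟨J, hJ, fun M hM => by
    haveI := hM
    exact (hJ.eq_of_le hM.ne_top (Groth.Agent.Hensel.tensorMax_le A A' B M)).symm⟩
  letI : Algebra B (A' ⊗[A] B) := Algebra.TensorProduct.rightAlgebra
  haveI : Algebra.IsIntegral B (A' ⊗[A] B) :=
    ⟨fun x => Groth.Agent.Hensel.isIntegral_includeRight A A' B x⟩
  haveI := Groth.Agent.Hensel.henselianLocalRing_of_isIntegral_local B (A' ⊗[A] B)
  have hmax : maximalIdeal (A' ⊗[A] B) = J := (IsLocalRing.eq_maximalIdeal hJ).symm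
  refine ⟨this, ?_, ⟨fun a ha => ?_⟩⟩
  · let e' : ResidueField A' ≃+* ResidueField (A' ⊗[A] B) := e.trans (Ideal.quotEquivOfEq hmax.symm)
    exact Groth.Agent.Hensel.isSepClosed_of_ringEquiv e'
  · by_contra hna
    exact (maximalIdeal.isMaximal (A' ⊗[A] B)).ne_top (Ideal.eq_top_of_isUnit_mem _
      (hmax ▸ Ideal.mem_sup_left (Ideal.mem_map_of_mem iL.toRingHom (show a ∈ maximalIdeal A' from hna))) ha)

end tensor

section line

variable (A : Type u) [CommRing A] [HenselianLocalRing A]
  (P : Ideal A[X]) (hP : P = (maximalIdeal A).map Polynomial.C ⊔ Ideal.span {Polynomial.X})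
  [P.IsPrime] (B : Type u) [CommRing B] [IsLocalRing B] [Algebra (Localization.AtPrime P) B]
  [IsLocalHom (algebraMap (Localization.AtPrime P) B)] [_root_.Hensel.IsHenselization (Localization.AtPrime P) B]

include hP in
/-- the residue field of the henselian line is that of the base -/
theorem residue_line [Algebra A B] (hφ : algebraMap A B = (algebraMap (Localization.AtPrime P) B).comp
      ((algebraMap A[X] (Localization.AtPrime P)).comp Polynomial.C)) :
    IsLocalHom (algebraMap A B) ∧ ∀ b : B, ∃ a : A, b - algebraMap A B a ∈ maximalIdeal B := by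
  let ι : A[X] →+* B := (algebraMap (Localization.AtPrime P) B).comp (algebraMap A[X] (Localization.AtPrime P))
  have hι : ∀ p ∈ P, ι p ∈ maximalIdeal B := fun p hp => map_nonunit (algebraMap (Localization.AtPrime P) B) _
    ((IsLocalization.AtPrime.to_map_mem_maximal_iff (Localization.AtPrime P) P p).2 hp)
  have hA : ∀ a, algebraMap A B a = ι (C a) := fun a => RingHom.congr_fun hφ a
  refine ⟨⟨fun a ha => ?_⟩, fun b => ?_⟩
  · by_contra hna
    have : ι (C a) ∈ maximalIdeal B := hι _ (hP.ge (Ideal.mem_sup_left (Ideal.mem_map_of_mem C hna)))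
    exact this ((hA a) ▸ ha)
  · obtain ⟨o, ho⟩ := Groth.Agent.Hensel.exists_sub_mem_of_isHenselization (Localization.AtPrime P) B b
    obtain ⟨f, s, rfl⟩ := IsLocalization.exists_mk'_eq P.primeCompl o
    have hev : ∀ g : A[X], g - C (g.coeff 0) ∈ P := fun g => hP.ge (Ideal.mem_sup_right
      (Ideal.mem_span_singleton.2 (X_dvd_sub_C)))
    have hs : IsUnit ((s : A[X]).coeff 0) := by
      by_contra hns
      refine s.2 ?_
      have := add_mem (hev s) (hP.ge (Ideal.mem_sup_left (Ideal.mem_map_of_mem C hns)) : C ((s : A[X]).coeff 0) ∈ P)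
      rwa [sub_add_cancel] at this
    obtain ⟨w, hw⟩ := hs.exists_left_inv
    refine ⟨w * f.coeff 0, ?_⟩
    let O := Localization.AtPrime P
    let o := IsLocalization.mk' O f s
    have h1 : b - algebraMap O B o ∈ maximalIdeal B := (show (maximalIdeal O).map (algebraMap O B) ≤ maximalIdeal B from
      Ideal.map_le_iff_le_comap.2 fun x hx => map_nonunit (algebraMap O B) x hx) ho
    have h2 : (f - C (w * f.coeff 0) * (s : A[X])) ∈ P := by
      have e : f - C (w * f.coeff 0) * (s : A[X]) =
          (f - C (f.coeff 0)) - C (w * f.coeff 0) * ((s : A[X]) - C ((s : A[X]).coeff 0)) := by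
        rw [mul_sub, ← map_mul C (w * f.coeff 0), mul_right_comm, hw, one_mul]
        ring
      rw [e]
      exact sub_mem (hev f) (P.mul_mem_left _ (hev s))
    have h3 : algebraMap O B o - algebraMap A B (w * f.coeff 0) ∈ maximalIdeal B := by
      have hu : IsUnit (ι (s : A[X])) := (IsLocalization.map_units O s).map (algebraMap O B)
      have h4 : (algebraMap O B o - algebraMap A B (w * f.coeff 0)) * ι (s : A[X]) =
          ι (f - C (w * f.coeff 0) * (s : A[X])) := by
        rw [sub_mul, map_sub ι, map_mul ι, hA]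
        show algebraMap O B o * algebraMap O B (algebraMap A[X] O s) - _ = _
        rw [← map_mul, IsLocalization.mk'_spec]
        rfl
      by_contra hn
      exact (maximalIdeal.isMaximal B).ne_top (Ideal.eq_top_of_isUnit_mem _ (hι _ h2)
        (h4 ▸ (IsLocalRing.notMem_maximalIdeal.1 hn).mul hu))
    simpa using add_mem h1 h3

end line

end Groth.Agent.SmAcyc
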