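import Groth.Agent.SmAcyc.Main
import Groth.Agent.UBC.Main
import Groth.Agent.BcBridge.Single

/-!
# Smooth base change
-/

set_option autoImplicit false
set_option backward.isDefEq.respectTransparency.types false

universe u

open CategoryTheory CategoryTheory.Limits AlgebraicGeometry Opposite

namespace Groth.Agent.SmAcyc

theorem isLTorsion_mono {X : Scheme.{u}} {L L' : Set ℕ} (hLL : ∀ ℓ ∈ L, ℓ.Prime → ℓ ∈ L') {F : EtCoh.Ab X}
    (hF : EtAcyc.IsLTorsion L F) : EtAcyc.IsLTorsion L' F := fun U s x => by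
  obtain ⟨V, g, m, hv, hm, h0⟩ := hF U s x
  exact ⟨V, g, m, hv, ⟨hm.1, fun p hp hpm => hLL p (hm.2 p hp hpm) hp⟩, h0⟩

theorem isLocAcyclicN_mono {X Y : Scheme.{u}} (g : X ⟶ Y) {L L' : Set ℕ} (hLL : ∀ ℓ ∈ L, ℓ.Prime → ℓ ∈ L') {n : ℕ}
    (h : EtAcyc.IsLocAcyclicN g L' n) : EtAcyc.IsLocAcyclicN g L n :=
  fun x RY RX _ _ _ _ _ _ _ _ _ _ _ _ hc V F hF => h x RY RX hc V F (isLTorsion_mono hLL hF)

theorem primesInvertibleOn_of_hom {X Y : Scheme.{u}} (g : X ⟶ Y) :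
    EtAcyc.primesInvertibleOn Y ⊆ EtAcyc.primesInvertibleOn X := fun ℓ hℓ =>
  ⟨hℓ.1, fun x h0 => hℓ.2 (g x) ((g.residueFieldMap x).hom.injective
    ((map_natCast (g.residueFieldMap x).hom ℓ).trans (h0.trans (map_zero _).symm)))⟩

/-- smooth morphisms are universally locally acyclic -/
theorem isULocAcyclic_smooth (hcd : AffineCurveCd.{u}) {X Y : Scheme.{u}} (g : X ⟶ Y) [Smooth g] :
    EtAcyc.IsULocAcyclic g (EtAcyc.primesInvertibleOn Y) := by
  intro n X₁ Y₁ g₁ b' b sq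
  haveI : Smooth g₁ := MorphismProperty.of_isPullback (P := @Smooth) sq inferInstance
  exact isLocAcyclicN_mono g₁ (fun ℓ hℓ _ => primesInvertibleOn_of_hom (g₁ ≫ b) hℓ)
    (isLocAcyclic_smooth hcd g₁ n)

attribute [local instance] HasDerivedCategory.standard

/-- smooth base change -/
theorem isIso_bcMap_smooth (hcd : AffineCurveCd.{u}) {X Y X' Y' : Scheme.{u}} (f : X ⟶ Y) (g : Y' ⟶ Y)
    (f' : X' ⟶ Y') (g' : X' ⟶ X) (h : IsPullback g' f' f g) [QuasiCompact f] [QuasiSeparated f] [Smooth g]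
    [PreservesFiniteLimits (EtCoh.pull g)] [PreservesFiniteLimits (EtCoh.pull g')]
    [DCoh.HasRpushEt X f] [DCoh.HasRpushEt X' f'] [DCoh.HasRpushEt Y' g]
    (adj : EtBC.pullD g ⊣ DCoh.RpushEt Y' g) (F : EtCoh.Ab X)
    (hF : EtAcyc.IsLTorsion (EtAcyc.primesInvertibleOn Y) F) :
    IsIso (EtBC.bcMap f g f' g' h.w adj (EtBC.single X F)) := by
  refine (DerivedCategory.isIso_iff _ _).2 fun n => ?_
  rcases lt_or_ge n 0 with hn | hn
  · exact BcBridge.isIso_homology_bcMap_neg f g f' g' h.w F adj n hn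
  · obtain ⟨q, rfl⟩ := Int.eq_ofNat_of_zero_le hn
    exact (BcBridge.isIso_homology_bcMap_iff f g f' g' h.w F adj q).2
      ((UBC.bcQ_of_uLocAcyclic h (isULocAcyclic_smooth hcd g q) F hF).1 q le_rfl)

end Groth.Agent.SmAcyc
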