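import Groth.Agent.AcycCover.Local
import Groth.Agent.AcycBase.Fwd
import Groth.Agent.EtFound.LocAcyclicComp
import Groth.Agent.S3471
import Groth.Agent.S8534
import Groth.Agent.IndEtStrict.Stalk
import Mathlib.AlgebraicGeometry.Morphisms.Smooth

/-!
# Smooth morphisms are locally acyclic: reduction to the affine line
-/

set_option autoImplicit false
set_option linter.style.haveILetI false
universe u

open CategoryTheory CategoryTheory.Limits AlgebraicGeometry IsLocalRing

namespace Groth.Agent.SmAcyc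

open Groth.Agent.EtFound Groth.Agent.AcycCover

set_option backward.isDefEq.respectTransparency.types false

/-- acyclicity for one prime, where it is invertible -/
def QAcyc (ℓ n : ℕ) : ∀ ⦃X' Y' : Scheme.{u}⦄, (X' ⟶ Y') → Prop := fun _ Y' h =>
  IsUnit (ℓ : Γ(Y', ⊤)) → EtAcyc.IsAcyclicN h ({ℓ} : Set ℕ) n

/-- composition -/
theorem qAcyc_comp_iff (ℓ n : ℕ) {A B C : Scheme.{u}} (a : A ⟶ B) (b : B ⟶ C) (ha : QAcyc ℓ n a) :
    QAcyc ℓ n b ↔ QAcyc ℓ n (a ≫ b) := by
  refine forall_congr' fun hu => isAcyclicN_comp_iff a b _ n (ha ?_)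
  simpa using hu.map b.appTop.hom

/-- the spectrum of an étale algebra transfers strict henselizations -/
theorem transfers_specMap {A B : Type u} [CommRing A] [CommRing B] (φ : A →+* B) (h : φ.Etale) :
    IndEtStrict.Transfers (Spec.map (CommRingCat.ofHom φ)) := by
  let Y := Spec (CommRingCat.of A)
  have hU : IsAffineOpen (⊤ : Y.Opens) := isAffineOpen_top Y
  let e := (Scheme.ΓSpecIso (CommRingCat.of A)).commRingCatIsoToRingEquiv
  let φ' : Γ(Y, ⊤) →+* B := φ.comp e.toRingHom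
  have hφ' : φ'.Etale := RingHom.Etale.stableUnderComposition _ _ (RingHom.Etale.of_bijective e.bijective) h
  refine IndEtStrict.IsChart.transfers ⟨B, inferInstance, Iso.refl _, ⊤, hU, φ', ?_, ?_⟩
  · letI := φ'.toAlgebra
    haveI : Algebra.Etale Γ(Y, ⊤) B := RingHom.etale_algebraMap.1 hφ'
    exact IndEtStrict.isIndEtale_of_etale _ _
  · rw [Iso.refl_hom, Category.id_comp, IsAffineOpen.fromSpec_top, CommRingCat.ofHom_comp, Spec.map_comp,
      Category.assoc]
    show _ = _ ≫ Spec.map (Scheme.ΓSpecIso (CommRingCat.of A)).hom ≫ (Spec (CommRingCat.of A)).isoSpec.inv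
    rw [Scheme.isoSpec_Spec_inv, ← Spec.map_comp, Iso.inv_hom_id, Spec.map_id, Category.comp_id]

/-- identities transfer strict henselizations -/
theorem transfers_id (P : Scheme.{u}) : IndEtStrict.Transfers (𝟙 P) := fun t R _ _ a b c =>
  IndEtStrict.strict_congr (y := t) (y' := (𝟙 P) t) rfl R (Hens2.specOf P t R ≫ 𝟙 P) ⟨a, b, c, Category.comp_id _⟩

/-- from a chart by open immersions -/
theorem onStrict_of_chart {X Y T P : Scheme.{u}} {g : X ⟶ Y} {ρ : T ⟶ Y} {a : P ⟶ X} {b : P ⟶ T}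
    [IsOpenImmersion ρ] [IsOpenImmersion a] (w : a ≫ g = b ≫ ρ)
    {Q : ∀ ⦃X' Y' : Scheme.{u}⦄, (X' ⟶ Y') → Prop} (h : EtAcyc.OnStrictLocalizations b Q) (p : P)
    (RY RX : Type u) [CommRing RY] [IsLocalRing RY] [CommRing RX] [IsLocalRing RX]
    [Algebra (Y.presheaf.stalk (g (a p))) RY] [IsLocalHom (algebraMap (Y.presheaf.stalk (g (a p))) RY)]
    [Hensel.IsStrictHenselization (Y.presheaf.stalk (g (a p))) RY]
    [Algebra (X.presheaf.stalk (a p)) RX] [IsLocalHom (algebraMap (X.presheaf.stalk (a p)) RX)]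
    [Hensel.IsStrictHenselization (X.presheaf.stalk (a p)) RX]
    (ψ : RY →+* RX) [IsLocalHom ψ]
    (e : Spec.map (CommRingCat.ofHom ψ) ≫ Hens2.specOf Y (g (a p)) RY = Hens2.specOf X (a p) RX ≫ g) :
    Q (Spec.map (CommRingCat.ofHom ψ)) := by
  obtain ⟨j1, j2, j3, hX⟩ := IndEtStrict.exists_strict_openImmersion a p RX
  have hy : g (a p) = ρ (b p) := (Scheme.Hom.comp_apply _ _ _).symm.trans
    ((congrArg (fun k : P ⟶ Y => k p) w).trans (Scheme.Hom.comp_apply _ _ _))
  obtain ⟨i1, i2, i3, hY⟩ := IndEtStrict.strict_congr hy RY (Hens2.specOf Y (g (a p)) RY) ⟨_, ‹_›, ‹_›, rfl⟩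
  letI := i1
  haveI := i2
  haveI := i3
  obtain ⟨k1, k2, k3, hT⟩ := IndEtStrict.exists_strict_openImmersion ρ (b p) RY
  letI := j1
  haveI := j2
  haveI := j3
  letI := k1
  haveI := k2
  haveI := k3
  refine onStrictLocalizations_apply b h p (b p) rfl RY RX ψ ((cancel_mono ρ).1 ?_)
  exact (Category.assoc _ _ _).trans ((congrArg (Spec.map (CommRingCat.ofHom ψ) ≫ ·) (hT.trans hY.symm)).trans
    (e.trans ((congrArg (· ≫ g) hX.symm).trans (((Category.assoc _ _ _).trans (congrArg (Hens2.specOf P p RX ≫ ·) w)).trans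
      (Category.assoc _ _ _).symm))))

/-- no primes, no comparison -/
theorem compN_of_no_prime {X Y : Scheme.{u}} (g : X ⟶ Y) {L : Set ℕ} (hL : ¬ ∃ ℓ ∈ L, ℓ.Prime) (n : ℕ) :
    EtAcyc.CompN g L n := fun F hF _ => by
  have hZ := AcycBase.isZero_of_isLTorsion hL hF
  have hZ' := AcycBase.isZero_of_isLTorsion hL (isLTorsion_pull g L hF)
  have h1 : ∀ q, Subsingleton (EtCoh.H Y F q) := fun q =>
    AddCommGrpCat.subsingleton_of_isZero ((EtCoh.HF Y q).map_isZero hZ)
  have h2 : ∀ q, Subsingleton (EtCoh.H X ((EtCoh.pull g).obj F) q) := fun q =>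
    AddCommGrpCat.subsingleton_of_isZero ((EtCoh.HF X q).map_isZero hZ')
  exact ⟨fun q _ => ⟨fun z z' _ => (h1 q).elim z z', fun z => ⟨0, (h2 q).elim _ z⟩⟩, fun z z' _ => (h1 _).elim z z'⟩

/-- local maps between strict henselizations at one point are isomorphisms -/
theorem isIso_specMap_of_strict {Y : Scheme.{u}} {y : Y} {S T : Type u} [CommRing S] [CommRing T] [IsLocalRing S]
    [IsLocalRing T] [Algebra (Y.presheaf.stalk y) S] [IsLocalHom (algebraMap (Y.presheaf.stalk y) S)]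
    [hS : Hensel.IsStrictHenselization (Y.presheaf.stalk y) S]
    [Algebra (Y.presheaf.stalk y) T] [IsLocalHom (algebraMap (Y.presheaf.stalk y) T)]
    [hT : Hensel.IsStrictHenselization (Y.presheaf.stalk y) T] (ψ : S →+* T) [IsLocalHom ψ]
    (e : Spec.map (CommRingCat.ofHom ψ) ≫ Hens2.specOf Y y S = Hens2.specOf Y y T) :
    IsIso (Spec.map (CommRingCat.ofHom ψ)) := by
  have hc : ψ.comp (algebraMap (Y.presheaf.stalk y) S) = algebraMap (Y.presheaf.stalk y) T :=
    UnitStalk.hom_eq_of_fromSpecStalk _ _ _ (by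
      rw [CommRingCat.ofHom_comp, Spec.map_comp, Category.assoc]
      exact e)
  haveI := hS.henselian
  haveI := hT.henselian
  haveI := hS.isSepClosure.sep_closed
  haveI := hT.isSepClosure.separable
  let O := Y.presheaf.stalk y
  let σ : ResidueField S →ₐ[ResidueField O] ResidueField T :=
    { ResidueField.map ψ with
      commutes' := fun z => by
        obtain ⟨r, rfl⟩ := residue_surjective z
        exact congrArg (residue T) congr($hc r) }
  have hσ : Function.Bijective σ := ⟨σ.toRingHom.injective, fun z => IndEtStrict.mem_range σ z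
    (Algebra.IsSeparable.isSeparable (ResidueField O) z)⟩
  let σ' := AlgEquiv.ofBijective σ hσ
  obtain ⟨θ, ⟨hθ, hθr⟩, -⟩ := hT.universal S (algebraMap O S) σ'.symm.toAlgHom.toRingHom
    (RingHom.ext fun z => σ'.symm.commutes z)
  have h1 : θ.comp ψ = RingHom.id S := by
    obtain ⟨g, -, hu⟩ := hS.universal S (algebraMap O S) (RingHom.id _) (RingHom.ext fun z => rfl)
    refine (hu _ ⟨by rw [RingHom.comp_assoc, hc, hθ], fun x => ?_⟩).trans (hu _ ⟨rfl, fun x => rfl⟩).symm
    exact (hθr (ψ x)).trans (σ'.symm_apply_apply (residue S x))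
  have h2 : ψ.comp θ = RingHom.id T := by
    obtain ⟨g, -, hu⟩ := hT.universal T (algebraMap O T) (RingHom.id _) (RingHom.ext fun z => rfl)
    refine (hu _ ⟨by rw [RingHom.comp_assoc, hθ, hc], fun x => ?_⟩).trans (hu _ ⟨rfl, fun x => rfl⟩).symm
    show residue T (ψ (θ x)) = residue T x
    rw [show residue T (ψ (θ x)) = σ (residue S (θ x)) from rfl, hθr x]
    exact σ'.apply_symm_apply (residue T x)
  exact ⟨Spec.map (CommRingCat.ofHom θ), by rw [← Spec.map_comp, ← CommRingCat.ofHom_comp, h2]; exact Spec.map_id _,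
    by rw [← Spec.map_comp, ← CommRingCat.ofHom_comp, h1]; exact Spec.map_id _⟩

/-- isomorphisms are acyclic -/
theorem isAcyclicN_of_isIso {X Y : Scheme.{u}} (g : X ⟶ Y) [IsIso g] (L : Set ℕ) (n : ℕ) :
    EtAcyc.IsAcyclicN g L n := fun V F _ _ =>
  ⟨fun q _ => Hpull_bijective_of_isIso (k := EtAcyc.prj g V) F q,
    (Hpull_bijective_of_isIso (k := EtAcyc.prj g V) F (n + 1)).1⟩

/-- the affine line over a ring -/
def LineAcyc (ℓ n : ℕ) : Prop :=
  ∀ (A : Type u) [CommRing A],
    EtAcyc.OnStrictLocalizations (Spec.map (CommRingCat.ofHom (Polynomial.C : A →+* Polynomial A))) (QAcyc ℓ n)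

/-- the affine spaces -/
theorem affineSpace_acyclic {ℓ n : ℕ} (H : LineAcyc.{u} ℓ n) : ∀ (d : ℕ) (A : Type u) [CommRing A],
    EtAcyc.OnStrictLocalizations (Spec.map (CommRingCat.ofHom (MvPolynomial.C : A →+* MvPolynomial (Fin d) A)))
      (QAcyc ℓ n) := by
  intro d
  induction d with
  | zero =>
    intro A _
    let e := MvPolynomial.isEmptyAlgEquiv A (Fin 0)
    have hC : (MvPolynomial.C : A →+* MvPolynomial (Fin 0) A).Etale :=
      RingHom.Etale.of_bijective ⟨MvPolynomial.C_injective _ _, MvPolynomial.C_surjective _⟩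
    intro x RY RX _ _ _ _ _ _ _ _ _ _ _ _ hc hu
    obtain ⟨i1, i2, i3, h1⟩ := transfers_specMap _ hC x RX
    have hs := Groth.Agent.EtBC.specOf_map x RY RX (algebraMap RY RX) hc
    rw [h1] at hs
    haveI := isIso_specMap_of_strict (algebraMap RY RX) hs
    exact isAcyclicN_of_isIso _ _ n
  | succ d ih =>
    intro A _
    let B := MvPolynomial (Fin d) A
    let e := MvPolynomial.finSuccEquiv A d
    let s := Spec.map (CommRingCat.ofHom (Polynomial.C : B →+* Polynomial B))
    let t := Spec.map (CommRingCat.ofHom (MvPolynomial.C : A →+* B))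
    have hs : Function.Surjective s.base := fun p => by
      refine ⟨(Spec.map (CommRingCat.ofHom (Polynomial.evalRingHom (0 : B)))) p, ?_⟩
      rw [← Scheme.Hom.comp_apply, ← Spec.map_comp, ← CommRingCat.ofHom_comp,
        show (Polynomial.evalRingHom (0 : B)).comp Polynomial.C = RingHom.id B from
          RingHom.ext fun b => Polynomial.eval_C]
      simp
    have h2 : EtAcyc.OnStrictLocalizations (s ≫ t) (QAcyc ℓ n) :=
      (onStrictLocalizations_comp_iff s t hs _ (qAcyc_comp_iff ℓ n) (H B)).1 (ih A)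
    let i := Spec.map (CommRingCat.ofHom e.symm.toRingHom)
    have hi : IndEtStrict.Transfers i :=
      transfers_specMap _ (RingHom.Etale.of_bijective e.symm.bijective)
    refine onStrictLocalizations_square (g := s ≫ t) (transfers_id _) hi ?_ h2
    rw [Category.comp_id, ← Spec.map_comp, ← Spec.map_comp]
    refine congrArg Spec.map (CommRingCat.hom_ext (RingHom.ext fun r => ?_))
    show e.symm (Polynomial.C (MvPolynomial.C r)) = MvPolynomial.C r
    rw [← Polynomial.algebraMap_eq, ← MvPolynomial.algebraMap_eq, ← IsScalarTower.algebraMap_apply]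
    exact e.symm.commutes r

/-- smooth morphisms -/
theorem onStrict_smooth {ℓ n : ℕ} (H : LineAcyc.{u} ℓ n) {X Y : Scheme.{u}} (g : X ⟶ Y) [Smooth g] :
    EtAcyc.OnStrictLocalizations g (QAcyc ℓ n) := by
  intro x RY RX _ _ _ _ _ _ _ _ _ _ _ _ hc
  have hs := Groth.Agent.EtBC.specOf_map x RY RX (algebraMap RY RX) hc
  obtain ⟨U, hU, V, hV, hxV, hVU, hstd⟩ := Smooth.exists_isStandardSmooth g x
  obtain ⟨d, π, hπC, hπ⟩ := hstd.exists_etale_mvPolynomial
  let P := Spec Γ(X, V)
  let a : P ⟶ X := hV.fromSpec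
  let ρ : Spec Γ(Y, U) ⟶ Y := hU.fromSpec
  let b : P ⟶ Spec Γ(Y, U) := Spec.map (g.appLE U V hVU)
  haveI : IsOpenImmersion a := hV.isOpenImmersion_fromSpec
  haveI : IsOpenImmersion ρ := hU.isOpenImmersion_fromSpec
  obtain ⟨p, hp⟩ : x ∈ Set.range a := by rw [hV.range_fromSpec]; exact hxV
  subst hp
  refine onStrict_of_chart (hU.SpecMap_appLE_fromSpec g hV hVU).symm ?_ p RY RX (algebraMap RY RX) hs
  refine onStrictLocalizations_square (g := Spec.map (CommRingCat.ofHom
    (MvPolynomial.C : Γ(Y, U) →+* MvPolynomial (Fin d) Γ(Y, U))))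
    (transfers_id _) (transfers_specMap π hπ) ?_ (affineSpace_acyclic H d _)
  rw [Category.comp_id, ← Spec.map_comp, ← CommRingCat.ofHom_comp, hπC]
  rfl

/-- smooth morphisms are locally acyclic, given the affine line -/
theorem isLocAcyclicN_smooth (n : ℕ) (H : ∀ ℓ : ℕ, ℓ.Prime → LineAcyc.{u} ℓ n) {X Y : Scheme.{u}} (g : X ⟶ Y)
    [Smooth g] : EtAcyc.IsLocAcyclicN g (EtAcyc.primesInvertibleOn X) n := by
  by_cases hL : ∃ ℓ ∈ EtAcyc.primesInvertibleOn X, ℓ.Prime
  · refine (S3471.result g _ hL n).2 ?_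
    intro x RY RX _ _ _ _ _ _ _ _ _ _ _ _ hc
    have hfib : ∀ ℓ ∈ EtAcyc.primesInvertibleOn X,
        EtAcyc.GeomFibresAcyclicN ({ℓ} : Set ℕ) n (Spec.map (CommRingCat.ofHom (algebraMap RY RX))) := fun ℓ hℓ => by
      refine S8534.result _ ({ℓ} : Set ℕ) ⟨ℓ, Set.mem_singleton ℓ, hℓ.1⟩ n (onStrict_smooth (H ℓ hℓ.1) g x RY RX hc ?_)
      have h1 : IsUnit ((ℓ : RY)) := by
        by_contra h0
        have hmem : (ℓ : Y.presheaf.stalk (g x)) ∈ maximalIdeal _ := fun hu => h0 (by
          simpa using hu.map (algebraMap (Y.presheaf.stalk (g x)) RY))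
        have h2 : (ℓ : Y.residueField (g x)) = 0 := by
          refine (map_natCast (IsLocalRing.residue (Y.presheaf.stalk (g x))) ℓ).symm.trans ?_
          exact (residue_eq_zero_iff _).2 hmem
        exact hℓ.2 x ((map_natCast (g.residueFieldMap x).hom ℓ).symm.trans ((congrArg _ h2).trans (map_zero _)))
      simpa using h1.map (Scheme.ΓSpecIso (CommRingCat.of RY)).inv.hom
    intro y Ω _ _ _ _
    obtain ⟨ℓ₀, hℓ₀, -⟩ := hL
    exact ⟨(hfib ℓ₀ hℓ₀ y Ω).1, (hfib ℓ₀ hℓ₀ y Ω).2.1, fun ℓ hℓ hℓL q h1 h2 =>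
      (hfib ℓ hℓL y Ω).2.2 ℓ hℓ rfl q h1 h2⟩
  · intro x RY RX _ _ _ _ _ _ _ _ _ _ _ _ hc V
    exact compN_of_no_prime _ hL n

end Groth.Agent.SmAcyc
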