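import Groth.Agent.SmAcyc.Cor

/-!
# Base change maps in the language of invertible torsion
-/

set_option autoImplicit false
set_option linter.style.haveILetI false
set_option backward.isDefEq.respectTransparency.types false

universe u

open CategoryTheory CategoryTheory.Limits AlgebraicGeometry Opposite

namespace Groth.Agent.SmAcyc

/-- the base change map in degree zero -/
theorem isIso_baseChange0_of_bcQ {X S S' X' : Scheme.{u}} (f : X ⟶ S) (g : S' ⟶ S) (f' : X' ⟶ S') (g' : X' ⟶ X)
    (w : g' ≫ f = f' ≫ g) [PreservesFiniteLimits (EtCoh.pull g')] (F : EtCoh.Ab X)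
    [IsIso (EtBC.bcQ f g f' g' w 0 F)] : IsIso (EtCoh.baseChange0 f g f' g' w F) := by
  haveI : PreservesFiniteLimits (EtCoh.push f) :=
    haveI : PreservesLimitsOfSize.{0, 0} (EtCoh.push f) := (EtCoh.pullPushAdj f).rightAdjoint_preservesLimits
    PreservesLimitsOfSize.preservesFiniteLimits _
  haveI : PreservesFiniteLimits (EtCoh.push f') :=
    haveI : PreservesLimitsOfSize.{0, 0} (EtCoh.push f') := (EtCoh.pullPushAdj f').rightAdjoint_preservesLimits
    PreservesLimitsOfSize.preservesFiniteLimits _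
  haveI : IsIso (EtCoh.baseChange0 f g f' g' w F ≫
      (EtCoh.push f').toRightDerivedZero.app ((EtCoh.pull g').obj F)) := by
    rw [← EtBC.bcQ_zero_compat]
    infer_instance
  exact IsIso.of_isIso_comp_right _ ((EtCoh.push f').toRightDerivedZero.app ((EtCoh.pull g').obj F))

/-- torsion invertible on the base is torsion for the primes invertible there -/
theorem isLTorsion_of_invertible {T S : Scheme.{u}} (g : T ⟶ S) {F : EtCoh.Ab T}
    (hF : EtPBC.IsTorsionInvertibleOn S F) : EtAcyc.IsLTorsion (EtAcyc.primesInvertibleOn S) F := fun U s x => by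
  obtain ⟨V, a, n, hv, hn, h0⟩ := hF U s x
  have hres : ∀ z : S, IsUnit (n : S.residueField z) := fun z => by
    have := hn.map (S.evaluation ⊤ z trivial).hom
    rwa [map_natCast] at this
  refine ⟨V, a, n, hv, ⟨Nat.pos_of_ne_zero fun h => ?_, fun p hp hpn => ⟨hp, fun z hz => ?_⟩⟩, h0⟩
  · subst h
    exact (hres ((U.hom ≫ g) x)).ne_zero Nat.cast_zero
  · obtain ⟨d, rfl⟩ := hpn
    exact (hres z).ne_zero (by rw [Nat.cast_mul, hz, zero_mul])

/-- smooth base change in every degree -/
theorem bcQ_smooth (hcd : AffineCurveCd.{u}) {X S Y T : Scheme.{u}} (f : X ⟶ S) [Smooth f] (g : T ⟶ S)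
    [QuasiCompact g] [QuasiSeparated g] (h : Y ⟶ X) (e : Y ⟶ T) (hc : IsPullback e h g f)
    [PreservesFiniteLimits (EtCoh.pull e)] (F : EtCoh.Ab T)
    (hF : EtAcyc.IsLTorsion (EtAcyc.primesInvertibleOn S) F) (q : ℕ) :
    IsIso (EtBC.bcQ g f h e hc.w q F) :=
  (UBC.bcQ_of_uLocAcyclic hc (isULocAcyclic_smooth hcd f q) F hF).1 q le_rfl

end Groth.Agent.SmAcyc
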