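import Groth.Agent.SmAcyc.Strict
import Groth.Agent.Hensel.IntegralStrict
import Groth.Agent.S0642

/-!
# Universal homeomorphisms are locally acyclic
-/

set_option autoImplicit false
set_option linter.style.haveILetI false
set_option backward.isDefEq.respectTransparency.types false

universe u

open CategoryTheory CategoryTheory.Limits AlgebraicGeometry Opposite IsLocalRing

namespace Groth.Agent.SmAcyc

open Groth.Agent.EtFound

set_option maxHeartbeats 1000000 in
/-- the strict localizations of a universal homeomorphism are universal homeomorphisms -/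
theorem isIso_strict_lift {X Y : Scheme.{u}} (u : X ⟶ Y) [IsIntegralHom u] [UniversallyInjective u] [Surjective u]
    (x : X) (RY RX : Type u) [CommRing RY] [CommRing RX] [IsLocalRing RY] [IsLocalRing RX]
    [Algebra (Y.presheaf.stalk (u.base x)) RY] [IsLocalHom (algebraMap (Y.presheaf.stalk (u.base x)) RY)]
    [Hensel.IsStrictHenselization (Y.presheaf.stalk (u.base x)) RY]
    [Algebra (X.presheaf.stalk x) RX] [IsLocalHom (algebraMap (X.presheaf.stalk x) RX)]
    [Hensel.IsStrictHenselization (X.presheaf.stalk x) RX] (ψ : RY →+* RX) [IsLocalHom ψ]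
    (e : Spec.map (CommRingCat.ofHom ψ) ≫ Hens2.specOf Y (u.base x) RY = Hens2.specOf X x RX ≫ u) :
    IsIso (pullback.lift (Hens2.specOf X x RX) (Spec.map (CommRingCat.ofHom ψ)) e.symm :
      Spec (CommRingCat.of RX) ⟶ pullback u (Hens2.specOf Y (u.base x) RY)) := by
  classical
  let π := Hens2.specOf Y (u.base x) RY
  haveI hRY : Hensel.IsStrictHenselization (Y.presheaf.stalk (u.base x)) RY := inferInstance
  haveI hRX : Hensel.IsStrictHenselization (X.presheaf.stalk x) RX := inferInstance
  haveI : HenselianLocalRing RY := hRY.henselian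
  haveI : IsSepClosed (ResidueField RY) := hRY.isSepClosure.sep_closed
  haveI : HenselianLocalRing RX := hRX.henselian
  haveI : IsSepClosed (ResidueField RX) := hRX.isSepClosure.sep_closed
  haveI := hRX.isSepClosure.separable
  let P := pullback u π
  let p := pullback.fst u π
  let ρ := pullback.snd u π
  haveI : IsIntegralHom ρ := MorphismProperty.pullback_snd _ _ ‹IsIntegralHom u›
  haveI : UniversallyInjective ρ := MorphismProperty.pullback_snd _ _ ‹UniversallyInjective u›
  haveI : Surjective ρ := MorphismProperty.pullback_snd _ _ ‹Surjective u›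
  haveI : IsAffine P := isAffine_of_isAffineHom ρ
  let T : CommRingCat.{u} := Γ(P, ⊤)
  let i : P ≅ Spec T := P.isoSpec
  let ρ' : Spec T ⟶ Spec (CommRingCat.of RY) := i.inv ≫ ρ
  haveI : IsIntegralHom ρ' := inferInstance
  haveI : UniversallyInjective ρ' := (MorphismProperty.cancel_left_of_respectsIso @UniversallyInjective i.inv ρ).2 ‹UniversallyInjective ρ›
  haveI : Surjective ρ' := inferInstance
  let χ : RY →+* T := (Spec.preimage ρ').hom
  have hχ : Spec.map (CommRingCat.ofHom χ) = ρ' := Spec.map_preimage ρ'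
  letI : Algebra RY T := χ.toAlgebra
  have hint : χ.IsIntegral := by
    refine IsIntegralHom.SpecMap_iff.1 ?_
    rw [show Spec.map (Spec.preimage ρ') = ρ' from Spec.map_preimage _]
    infer_instance
  haveI : Algebra.IsIntegral RY T := ⟨hint⟩
  obtain ⟨t₀, ht₀⟩ := ρ'.surjective (closedPoint RY)
  have hmax : ∀ (M : Ideal T) (hM : M.IsMaximal), (⟨M, hM.isPrime⟩ : PrimeSpectrum T) = t₀ := fun M hM => by
    haveI := hM
    refine ρ'.injective (Eq.trans ?_ ht₀.symm)
    rw [← hχ]
    exact PrimeSpectrum.ext (IsLocalRing.eq_maximalIdeal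
      (Ideal.isMaximal_comap_of_isIntegral_of_isMaximal (R := RY) M))
  haveI : IsLocalRing T := by
    obtain ⟨M, hM⟩ : ∃ M : Ideal T, M.IsMaximal := by
      obtain ⟨M, hM, -⟩ := Ideal.exists_le_maximal t₀.asIdeal t₀.isPrime.ne_top
      exact ⟨M, hM⟩
    exact IsLocalRing.of_unique_max_ideal ⟨M, hM, fun N hN =>
      congrArg PrimeSpectrum.asIdeal ((hmax N hN).trans (hmax M hM).symm)⟩
  haveI hT : HenselianLocalRing T := Groth.Agent.Hensel.henselianLocalRing_of_isIntegral_local RY T
  haveI hχl : IsLocalHom χ := Groth.Agent.Hensel.isLocalHom_of_isIntegral_local RY T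
  haveI : IsSepClosed (ResidueField T) :=
    haveI : IsLocalHom (algebraMap RY T) := hχl
    (Groth.Agent.Hensel.residueField_of_isIntegral RY T).1
  let h := Spec.map (CommRingCat.ofHom ψ)
  let q : Spec (CommRingCat.of RX) ⟶ P := pullback.lift (Hens2.specOf X x RX) h e.symm
  have hq1 : q ≫ p = Hens2.specOf X x RX := pullback.lift_fst _ _ _
  have hq2 : q ≫ ρ = h := pullback.lift_snd _ _ _
  let β : T →+* RX := (Spec.preimage (q ≫ i.hom)).hom
  have hβ : Spec.map (CommRingCat.ofHom β) = q ≫ i.hom := Spec.map_preimage _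
  have hβχ : β.comp χ = ψ := by
    refine congrArg CommRingCat.Hom.hom (Spec.map_injective (a₁ := CommRingCat.ofHom (β.comp χ))
      (a₂ := CommRingCat.ofHom ψ) ?_)
    rw [CommRingCat.ofHom_comp, Spec.map_comp, hβ, hχ]
    simp only [ρ', Category.assoc, Iso.hom_inv_id_assoc]
    exact hq2
  haveI hβl : IsLocalHom β := ⟨fun a ha => by
    by_contra hn
    -- a non unit of `T` satisfies a monic equation with lower coefficients in the maximal ideal
    have h1 : (Spec.map (CommRingCat.ofHom β) (closedPoint RX)) = closedPoint T := by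
      refine ρ'.injective ?_
      rw [← hχ]
      refine (Scheme.Hom.comp_apply _ _ _).symm.trans ?_
      rw [← Spec.map_comp, ← CommRingCat.ofHom_comp, hβχ]
      exact (IsLocalRing.comap_closedPoint ψ).trans (IsLocalRing.comap_closedPoint χ).symm
    have h2 : (maximalIdeal RX).comap β = maximalIdeal T := congrArg PrimeSpectrum.asIdeal h1
    have hm : a ∈ (maximalIdeal RX).comap β := by rw [h2]; exact hn
    exact hm ha⟩
  let j : Spec T ⟶ X := i.inv ≫ p
  have hj : j ≫ u = ρ' ≫ π := by
    simp only [j, ρ', Category.assoc]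
    exact congrArg (i.inv ≫ ·) pullback.condition
  have hqj : Spec.map (CommRingCat.ofHom β) ≫ j = Hens2.specOf X x RX := by
    rw [hβ]
    simp only [j, Category.assoc, Iso.hom_inv_id_assoc]
    exact hq1
  have hjx : j (closedPoint T) = x := by
    refine ((congrArg j (IsLocalRing.comap_closedPoint β)).symm.trans ?_)
    refine (Scheme.Hom.comp_apply _ _ _).symm.trans ((congrArg (fun t : Spec (CommRingCat.of RX) ⟶ X => t (closedPoint RX))
      hqj).trans (UnitStalk.specMap_closed x _))
  obtain ⟨α, hα, hαe⟩ := UnitStalk.exists_stalk_hom (R := T) j hjx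
  have hβα : β.comp α = algebraMap (X.presheaf.stalk x) RX := by
    refine UnitStalk.hom_eq_of_fromSpecStalk x _ _ ?_
    rw [CommRingCat.ofHom_comp, Spec.map_comp, Category.assoc, hαe]
    exact hqj
  letI : Algebra (ResidueField (X.presheaf.stalk x)) (ResidueField T) := (ResidueField.map α).toAlgebra
  let τ : ResidueField T →ₐ[ResidueField (X.presheaf.stalk x)] ResidueField RX :=
    { ResidueField.map β with
      commutes' := fun w => by
        obtain ⟨r, rfl⟩ := residue_surjective w
        exact congrArg (residue RX) (RingHom.congr_fun hβα r) }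
  have hτ : Function.Surjective τ := fun z =>
    UnitStalk.mem_range_of_isSepClosed τ z (Algebra.IsSeparable.isSeparable _ z)
  let ε := RingEquiv.ofBijective τ.toRingHom ⟨τ.toRingHom.injective, hτ⟩
  obtain ⟨H, ⟨hH, hHr⟩, -⟩ := hRX.universal T α ε.symm.toRingHom (RingHom.ext fun w => ε.symm_apply_eq.2
    (τ.commutes w).symm)
  haveI hHl : IsLocalHom H := ⟨fun a ha => by
    by_contra hn
    have h0 : residue T (H a) = 0 := by rw [hHr, (residue_eq_zero_iff a).2 hn, map_zero]
    exact ((residue_eq_zero_iff _).1 h0) ha⟩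
  have hresH : ∀ a, residue RX (β (H a)) = residue RX a := fun a =>
    (congrArg τ (hHr a)).trans (ε.apply_symm_apply _)
  have hβH : β.comp H = RingHom.id RX := by
    obtain ⟨K, -, huK⟩ := hRX.universal RX (algebraMap (X.presheaf.stalk x) RX) (RingHom.id _)
      (RingHom.ext fun w => by
        obtain ⟨r, rfl⟩ := residue_surjective w
        rfl)
    exact (huK _ ⟨by rw [RingHom.comp_assoc, hH, hβα], fun a => hresH a⟩).trans
      (huK _ ⟨RingHom.id_comp _, fun _ => rfl⟩).symm
  have hHj : Spec.map (CommRingCat.ofHom H) ≫ Hens2.specOf X x RX = j := by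
    rw [Hens2.specOf, ← Category.assoc, ← Spec.map_comp, ← CommRingCat.ofHom_comp, hH]
    exact hαe
  have hHψ : H.comp ψ = χ := by
    haveI : IsLocalHom (H.comp ψ) := RingHom.isLocalHom_comp _ _
    have halg : (H.comp ψ).comp (algebraMap (Y.presheaf.stalk (u.base x)) RY) =
        χ.comp (algebraMap (Y.presheaf.stalk (u.base x)) RY) := by
      refine UnitStalk.hom_eq_of_fromSpecStalk _ _ _ ?_
      rw [CommRingCat.ofHom_comp, CommRingCat.ofHom_comp (g := χ), Spec.map_comp, Spec.map_comp, Category.assoc,
        Category.assoc, CommRingCat.ofHom_comp, Spec.map_comp, Category.assoc, hχ]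
      exact (congrArg (Spec.map (CommRingCat.ofHom H) ≫ ·) e).trans ((Category.assoc _ _ _).symm.trans
        ((congrArg (· ≫ u) hHj).trans hj))
    haveI : IsLocalHom (χ.comp (algebraMap (Y.presheaf.stalk (u.base x)) RY)) := RingHom.isLocalHom_comp _ _
    obtain ⟨K, -, huK⟩ := hRY.universal T (χ.comp (algebraMap (Y.presheaf.stalk (u.base x)) RY))
      (ResidueField.map χ) (RingHom.ext fun w => by
        obtain ⟨r, rfl⟩ := residue_surjective w
        rfl)
    refine (huK _ ⟨halg, fun a => τ.toRingHom.injective ?_⟩).trans (huK _ ⟨rfl, fun a => rfl⟩).symm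
    exact (hresH (ψ a)).trans (congrArg (residue RX) (RingHom.congr_fun hβχ a)).symm
  have hHβ : H.comp β = RingHom.id T := by
    refine congrArg CommRingCat.Hom.hom (Spec.map_injective (a₁ := CommRingCat.ofHom (H.comp β))
      (a₂ := CommRingCat.ofHom (RingHom.id T)) ((cancel_mono i.inv).1 ?_))
    rw [CommRingCat.ofHom_id, Spec.map_id, Category.id_comp, CommRingCat.ofHom_comp, Spec.map_comp, hβ]
    simp only [Category.assoc, Iso.hom_inv_id, Category.comp_id]
    refine pullback.hom_ext ?_ ?_
    · exact (Category.assoc _ _ _).trans ((congrArg (Spec.map (CommRingCat.ofHom H) ≫ ·) hq1).trans hHj)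
    · refine (Category.assoc _ _ _).trans ((congrArg (Spec.map (CommRingCat.ofHom H) ≫ ·) hq2).trans ?_)
      show Spec.map (CommRingCat.ofHom H) ≫ Spec.map (CommRingCat.ofHom ψ) = ρ'
      rw [← Spec.map_comp, ← CommRingCat.ofHom_comp, hHψ, hχ]
  haveI : IsIso (Spec.map (CommRingCat.ofHom β)) :=
    ⟨Spec.map (CommRingCat.ofHom H), by rw [← Spec.map_comp, ← CommRingCat.ofHom_comp, hβH]; simp,
      by rw [← Spec.map_comp, ← CommRingCat.ofHom_comp, hHβ]; simp⟩
  haveI : IsIso (q ≫ i.hom) := by rw [← hβ]; infer_instance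
  exact IsIso.of_isIso_comp_right q i.hom

/-- universal homeomorphisms are locally acyclic -/
theorem isLocAcyclicN_of_univHomeo {X Y : Scheme.{u}} (u : X ⟶ Y) [IsIntegralHom u] [UniversallyInjective u]
    [Surjective u] (L : Set ℕ) (n : ℕ) : EtAcyc.IsLocAcyclicN u L n := by
  intro x RY RX _ _ _ _ _ _ _ _ _ _ _ _ hc V F hF _
  have e := EtBC.specOf_map x RY RX _ hc
  haveI := isIso_strict_lift u x RY RX (algebraMap RY RX) e
  let h := Spec.map (CommRingCat.ofHom (algebraMap RY RX))
  have hh : h = pullback.lift (Hens2.specOf X x RX) h e.symm ≫ pullback.snd u (Hens2.specOf Y (u.base x) RY) :=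
    (pullback.lift_snd _ _ _).symm
  haveI : IsIntegralHom (pullback.snd u (Hens2.specOf Y (u.base x) RY)) :=
    MorphismProperty.pullback_snd _ _ ‹IsIntegralHom u›
  haveI : UniversallyInjective (pullback.snd u (Hens2.specOf Y (u.base x) RY)) :=
    MorphismProperty.pullback_snd _ _ ‹UniversallyInjective u›
  haveI : Surjective (pullback.snd u (Hens2.specOf Y (u.base x) RY)) :=
    MorphismProperty.pullback_snd _ _ ‹Surjective u›
  haveI : IsIntegralHom h := by rw [hh]; infer_instance
  haveI : UniversallyInjective h := by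
    rw [hh]
    exact (MorphismProperty.cancel_left_of_respectsIso @UniversallyInjective _ _).2 inferInstance
  haveI : Surjective h := by rw [hh]; infer_instance
  haveI : IsIntegralHom (EtAcyc.prj h V) := MorphismProperty.pullback_fst _ _ ‹IsIntegralHom h›
  haveI : UniversallyInjective (EtAcyc.prj h V) := MorphismProperty.pullback_fst _ _ ‹UniversallyInjective h›
  haveI : Surjective (EtAcyc.prj h V) := MorphismProperty.pullback_fst _ _ ‹Surjective h›
  exact ⟨fun q _ => S0642.result (EtAcyc.prj h V) F q, (S0642.result (EtAcyc.prj h V) F (n + 1)).1⟩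

end Groth.Agent.SmAcyc
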