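import Groth.Agent.SmAcyc.Limit.LocAcyclic
import Groth.Agent.SmAcyc.Cor
import Groth.Agent.SmAcyc.UnivHomeo
import Groth.Agent.S3514
import Groth.Agent.S0204
import Groth.Agent.MorLib.RingUnivHomeo
import Mathlib.CategoryTheory.Limits.Constructions.Over.Connected
import Mathlib.RingTheory.Smooth.Field
import Mathlib.FieldTheory.PurelyInseparable.PerfectClosure

/-!
# Field extensions are universally locally acyclic
-/

set_option autoImplicit false
set_option linter.style.haveILetI false
set_option backward.isDefEq.respectTransparency.types false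

universe u

open CategoryTheory CategoryTheory.Limits AlgebraicGeometry Opposite

namespace Groth.Agent.SmAcyc

open Groth.Agent.EtFound

section perfect

variable (k K : Type u) [Field k] [Field K] [Algebra k K]

/-- over a perfect field a finitely generated subalgebra of a field lies in a smooth one -/
theorem exists_smooth_ge [PerfectField k] (A : Subalgebra k K) (hA : A.FG) :
    ∃ C : Subalgebra k K, A ≤ C ∧ Algebra.Smooth k C := by
  haveI : Algebra.FiniteType k A := (Subalgebra.fg_iff_finiteType A).1 hA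
  haveI : Algebra.FinitePresentation k A := Algebra.FinitePresentation.of_finiteType.1 inferInstance
  let p : Ideal A := ⊥
  haveI : p.IsPrime := Ideal.isPrime_bot
  haveI : IsLocalization p.primeCompl (FractionRing A) := by
    rw [show p.primeCompl = nonZeroDivisors A from Ideal.primeCompl_bot]
    infer_instance
  haveI : Algebra.FormallySmooth k (FractionRing A) := Algebra.FormallySmooth.of_perfectField
  haveI : Algebra.IsSmoothAt k p := Algebra.FormallySmooth.of_equiv
    ((IsLocalization.algEquiv p.primeCompl (FractionRing A) (Localization.AtPrime p)).restrictScalars k)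
  obtain ⟨f, hf, hsm⟩ := Algebra.IsSmoothAt.exists_notMem_smooth (R := k) p
  have hfK : (f : K) ≠ 0 := fun h => hf (Ideal.mem_bot.2 (Subtype.ext h))
  let φ : Localization.Away f →ₐ[k] K := IsLocalization.liftAlgHom (M := Submonoid.powers f) (f := A.val) fun y => by
    obtain ⟨m, hm⟩ := y.2
    rw [← hm, map_pow]
    exact (Ne.isUnit hfK).pow m
  have hφ : ∀ a : A, φ (algebraMap A (Localization.Away f) a) = (a : K) := fun a => by
    simp [φ, IsLocalization.lift_eq]
  have hinj : Function.Injective φ := by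
    refine (injective_iff_map_eq_zero φ).2 fun z hz => ?_
    obtain ⟨a, s, rfl⟩ := IsLocalization.exists_mk'_eq (Submonoid.powers f) z
    have h1 := congrArg φ (IsLocalization.mk'_spec (Localization.Away f) a s)
    rw [map_mul, hz, zero_mul, hφ] at h1
    have ha : a = 0 := Subtype.ext h1.symm
    rw [ha, IsLocalization.mk'_zero]
  refine ⟨φ.range, fun x hx => ⟨algebraMap A (Localization.Away f) ⟨x, hx⟩, hφ ⟨x, hx⟩⟩, ?_⟩
  haveI := hsm
  exact Algebra.Smooth.of_equiv (AlgEquiv.ofInjective φ hinj)

/-- the smooth subalgebras -/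
abbrev SmoothSub : Type u := {A : Subalgebra k K // Algebra.Smooth k A}

theorem SmoothSub.fg (A : SmoothSub k K) : A.1.FG :=
  haveI := A.2
  (Subalgebra.fg_iff_finiteType A.1).2 inferInstance

variable [PerfectField k]

instance : IsDirected (SmoothSub k K) (· ≤ ·) :=
  ⟨fun A B => by
    obtain ⟨C, hC, hs⟩ := exists_smooth_ge k K (A.1 ⊔ B.1) ((SmoothSub.fg k K A).sup (SmoothSub.fg k K B))
    exact ⟨⟨C, hs⟩, le_sup_left.trans hC, le_sup_right.trans hC⟩⟩

instance : Nonempty (SmoothSub k K) :=
  let ⟨C, _, hs⟩ := exists_smooth_ge k K ⊥ Subalgebra.fg_bot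
  ⟨⟨C, hs⟩⟩

/-- the system of smooth subalgebras -/
noncomputable def smRings : SmoothSub k K ⥤ CommRingCat.{u} where
  obj A := CommRingCat.of A.1
  map h := CommRingCat.ofHom (Subalgebra.inclusion (leOfHom h)).toRingHom

/-- the cocone of inclusions -/
noncomputable def smCocone : Cocone (smRings k K) where
  pt := CommRingCat.of K
  ι := { app := fun A => CommRingCat.ofHom A.1.val.toRingHom }

/-- the field is the colimit of its smooth subalgebras -/
theorem nonempty_isColimit_smCocone : Nonempty (IsColimit (smCocone k K)) := by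
  classical
  haveI : IsFiltered (SmoothSub k K) := isFiltered_of_directed_le_nonempty _
  haveI : ReflectsColimit (smRings k K) (forget CommRingCat.{u}) :=
    reflectsColimit_of_reflectsIsomorphisms _ _
  refine ⟨isColimitOfReflects (forget CommRingCat.{u}) ?_⟩
  refine Types.FilteredColimit.isColimitOf' _ _ (fun z => ?_) fun s x y h => ?_
  · obtain ⟨C, hC, hs⟩ := exists_smooth_ge k K (Algebra.adjoin k ({z} : Set K))
      (Subalgebra.fg_def.2 ⟨{z}, Set.finite_singleton z, rfl⟩)
    exact ⟨⟨C, hs⟩, ⟨z, hC (Algebra.subset_adjoin rfl)⟩, rfl⟩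
  · exact ⟨s, 𝟙 s, congrArg _ (Subtype.ext h)⟩

/-- the structure morphisms -/
noncomputable abbrev smHom (A : SmoothSub k K) : Spec (CommRingCat.of A.1) ⟶ Spec (CommRingCat.of k) :=
  Spec.map (CommRingCat.ofHom (algebraMap k A.1))

/-- the system of spectra -/
noncomputable def smSys : (SmoothSub k K)ᵒᵖ ⥤ Over (Spec (CommRingCat.of k)) where
  obj A := Over.mk (smHom k K A.unop)
  map {A B} h := Over.homMk (Spec.map ((smRings k K).map h.unop)) (by
    show Spec.map _ ≫ Spec.map _ = Spec.map _
    rw [← Spec.map_comp]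
    rfl)
  map_id A := Over.OverMorphism.ext (by
    show Spec.map _ = _
    rw [unop_id, CategoryTheory.Functor.map_id]
    exact Spec.map_id _)
  map_comp f g := Over.OverMorphism.ext (by
    show Spec.map _ = _
    rw [unop_comp, Functor.map_comp]; exact Spec.map_comp _ _)

/-- the cone of the field -/
noncomputable def smCone : Cone (smSys k K) where
  pt := Over.mk (Spec.map (CommRingCat.ofHom (algebraMap k K)))
  π :=
    { app := fun A => Over.homMk (Spec.map ((smCocone k K).ι.app A.unop)) (by
        show Spec.map _ ≫ Spec.map _ = Spec.map _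
        rw [← Spec.map_comp]
        rfl)
      naturality := fun A B h => Over.OverMorphism.ext (by
        show 𝟙 _ ≫ Spec.map _ = Spec.map _ ≫ Spec.map _
        rw [Category.id_comp, ← Spec.map_comp]
        exact congrArg Spec.map ((smCocone k K).w h.unop).symm) }

/-- the spectrum of the field is the limit -/
theorem nonempty_isLimit_smCone : Nonempty (IsLimit (smCone k K)) := by
  haveI : IsFiltered (SmoothSub k K) := isFiltered_of_directed_le_nonempty _
  haveI : PreservesLimitsOfSize.{u, u} Scheme.Spec.{u} := ΓSpec.adjunction.rightAdjoint_preservesLimits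
  obtain ⟨hcol⟩ := nonempty_isColimit_smCocone k K
  have h1 : IsLimit ((Over.forget _).mapCone (smCone k K)) :=
    IsLimit.ofIsoLimit (isLimitOfPreserves Scheme.Spec hcol.op)
      (Cone.ext (Iso.refl _) (fun s => (Category.id_comp _).symm))
  haveI : IsConnected (SmoothSub k K)ᵒᵖ := IsCofiltered.isConnected _
  exact ⟨isLimitOfReflects (Over.forget (Spec (CommRingCat.of k))) h1⟩

/-- over a perfect field every extension is universally locally acyclic -/
theorem isULocAcyclic_perfect :
    EtAcyc.IsULocAcyclic (Spec.map (CommRingCat.ofHom (algebraMap k K)))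
      (EtAcyc.primesInvertibleOn (Spec (CommRingCat.of k))) := by
  intro n X₁ Y₁ g₁ b' b sq
  haveI : IsFiltered (SmoothSub k K) := isFiltered_of_directed_le_nonempty _
  obtain ⟨hc⟩ := nonempty_isLimit_smCone k K
  let P := CategoryTheory.Over.pullback b
  let D : (SmoothSub k K)ᵒᵖ ⥤ Over Y₁ := smSys k K ⋙ P
  let c : Cone D := P.mapCone (smCone k K)
  have hD : IsLimit c := isLimitOfPreserves P hc
  let Xs := D ⋙ CategoryTheory.Over.forget Y₁
  let c₀ : Cone Xs := (CategoryTheory.Over.forget Y₁).mapCone c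
  have hc₀ : IsLimit c₀ := isLimitOfPreserves _ hD
  let e : X₁ ≅ pullback (Spec.map (CommRingCat.ofHom (algebraMap k K))) b := sq.isoPullback
  let c₁ : Cone Xs := c₀.extend e.hom
  haveI : IsConnected (SmoothSub k K)ᵒᵖ := IsCofiltered.isConnected _
  have hc₁ : IsLimit c₁ := IsLimit.extendIso (s := c₀) e.hom hc₀
  refine Limit.isLocAcyclicN_limit (S := Y₁) (fun a a' h => ?_) c₁ hc₁ (fun i => (D.obj (op i)).hom)
    (fun {i j} h => Over.w (D.map (homOfLE h).op)) g₁ (fun i => ?_) _ n (fun i => ?_)
  · haveI : ∀ A : (SmoothSub k K)ᵒᵖ, IsAffineHom (D.obj A).hom := fun A =>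
      MorphismProperty.pullback_snd (P := @IsAffineHom) _ _ (inferInstanceAs (IsAffineHom (smHom k K A.unop)))
    haveI : IsAffineHom ((D.map h).left ≫ (D.obj a').hom) := by
      rw [Over.w (D.map h)]; infer_instance
    exact IsAffineHom.of_comp (D.map h).left (D.obj a').hom
  · show (e.hom ≫ (c.π.app (op i)).left) ≫ (D.obj (op i)).hom = g₁
    exact ((Category.assoc _ _ _).trans (congrArg (e.hom ≫ ·) (Over.w (c.π.app (op i))))).trans
      sq.isoPullback_hom_snd
  · haveI : Smooth (smHom k K i) := by
      haveI := i.2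
      exact (HasRingHomProperty.Spec_iff (P := @Smooth)).2 (RingHom.smooth_algebraMap.2 inferInstance)
    exact isULocAcyclic_smooth (fun k _ _ Z _ a _ h => S0204.result k Z a h) (smHom k K i) n
      (pullback.snd (smHom k K i) b) _ b (IsPullback.of_hasPullback _ _)

end perfect

theorem mem_primesInvertibleOn_field {k : Type u} [Field k] {ℓ : ℕ} (hℓ : ℓ.Prime) (hne : ℓ ≠ ringChar k) :
    ℓ ∈ EtAcyc.primesInvertibleOn (Spec (CommRingCat.of k)) := by
  have h0 : (ℓ : k) ≠ 0 := fun h => by
    rcases (Nat.dvd_prime hℓ).1 ((ringChar.spec k ℓ).1 h) with h1 | h1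
    · exact CharP.ringChar_ne_one h1
    · exact hne h1.symm
  refine ⟨hℓ, fun x hx => ?_⟩
  let φ : k →+* (Spec (CommRingCat.of k)).residueField x :=
    ((Scheme.ΓSpecIso (CommRingCat.of k)).inv ≫ (Spec (CommRingCat.of k)).evaluation ⊤ x trivial).hom
  exact h0 (φ.injective ((map_natCast φ ℓ).trans (hx.trans (map_zero φ).symm)))

theorem ne_ringChar_of_invertible {k : Type u} [Field k] {ℓ : ℕ}
    (hℓ : ℓ ∈ EtAcyc.primesInvertibleOn (Spec (CommRingCat.of k))) : ℓ ≠ ringChar k := fun h => by
  have h0 : (ℓ : k) = 0 := h ▸ (ringChar.spec k (ringChar k)).2 dvd_rfl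
  have h1 := congrArg ((Scheme.ΓSpecIso (CommRingCat.of k)).inv ≫
    (Spec (CommRingCat.of k)).evaluation ⊤ default trivial).hom h0
  rw [map_natCast, map_zero] at h1
  exact hℓ.2 _ h1

theorem univHomeo_of_purelyInseparable (k K : Type u) [Field k] [Field K] [Algebra k K] [IsPurelyInseparable k K] :
    IsIntegralHom (Spec.map (CommRingCat.ofHom (algebraMap k K))) ∧
      UniversallyInjective (Spec.map (CommRingCat.ofHom (algebraMap k K))) ∧
      Surjective (Spec.map (CommRingCat.ofHom (algebraMap k K))) :=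
  ⟨IsIntegralHom.SpecMap_iff.2 (algebraMap_isIntegral_iff.2 inferInstance),
    (MorLib.RUH.universallyInjective_SpecMap_iff _).2 fun L _ _ _ h =>
      IsPurelyInseparable.injective_comp_algebraMap k K L h,
    ⟨fun x => ⟨(default : Spec (CommRingCat.of K)), Subsingleton.elim _ _⟩⟩⟩

/-- every field extension is universally locally acyclic -/
theorem isULocAcyclic_fieldExt (k K : Type u) [Field k] [Field K] [Algebra k K] (L : Set ℕ)
    (hL : ∀ ℓ ∈ L, ℓ.Prime → ℓ ≠ ringChar k) :
    EtAcyc.IsULocAcyclic (Spec.map (CommRingCat.ofHom (algebraMap k K))) L := by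
  intro n X₁ Y₁ g₁ b' b sq
  let Kc := AlgebraicClosure K
  let k' := perfectClosure k Kc
  let K' := perfectClosure K Kc
  have hle : ∀ x : k', (x : Kc) ∈ K' := fun x => by
    obtain ⟨m, y, hy⟩ := mem_perfectClosure_iff.1 x.2
    refine mem_perfectClosure_iff.2 ⟨m, algebraMap k K y, ?_⟩
    haveI := expChar_of_injective_algebraMap (algebraMap k K).injective (ringExpChar k)
    rw [ringExpChar.eq K (ringExpChar k)]
    rw [← hy]
    exact (IsScalarTower.algebraMap_apply k K Kc y).symm
  let ι : k' →+* K' := k'.toSubalgebra.val.toRingHom.codRestrict K'.toSubfield.toSubring hle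
  letI : Algebra k' K' := ι.toAlgebra
  let g := Spec.map (CommRingCat.ofHom (algebraMap k K))
  let u : Spec (CommRingCat.of K') ⟶ Spec (CommRingCat.of K) := Spec.map (CommRingCat.ofHom (algebraMap K K'))
  let w : Spec (CommRingCat.of k') ⟶ Spec (CommRingCat.of k) := Spec.map (CommRingCat.ofHom (algebraMap k k'))
  let v : Spec (CommRingCat.of K') ⟶ Spec (CommRingCat.of k') := Spec.map (CommRingCat.ofHom (algebraMap k' K'))
  have hcomm : u ≫ g = v ≫ w := by
    simp only [u, g, v, w, ← Spec.map_comp, ← CommRingCat.ofHom_comp]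
    refine congrArg (fun r => Spec.map (CommRingCat.ofHom r)) (RingHom.ext fun x => Subtype.ext ?_)
    exact ((IsScalarTower.algebraMap_apply k K Kc x).symm)
  obtain ⟨iu1, iu2, iu3⟩ := univHomeo_of_purelyInseparable K K'
  obtain ⟨iw1, iw2, iw3⟩ := univHomeo_of_purelyInseparable k k'
  -- the base changes
  let Y' := pullback w b
  let w' : Y' ⟶ Y₁ := pullback.snd w b
  haveI : IsIntegralHom w' := MorphismProperty.pullback_snd _ _ iw1
  haveI : UniversallyInjective w' := MorphismProperty.pullback_snd _ _ iw2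
  haveI : Surjective w' := MorphismProperty.pullback_snd _ _ iw3
  let X' := pullback u b'
  let u' : X' ⟶ X₁ := pullback.snd u b'
  haveI : IsIntegralHom u' := MorphismProperty.pullback_snd _ _ iu1
  haveI : UniversallyInjective u' := MorphismProperty.pullback_snd _ _ iu2
  haveI : Surjective u' := MorphismProperty.pullback_snd _ _ iu3
  have sqX : IsPullback (pullback.fst u b') (u' ≫ g₁) (u ≫ g) b :=
    (IsPullback.of_hasPullback u b').paste_vert sq
  have hl : (pullback.fst u b' ≫ v) ≫ w = (u' ≫ g₁) ≫ b := by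
    rw [Category.assoc, ← hcomm]
    exact sqX.w
  let v' : X' ⟶ Y' := pullback.lift (pullback.fst u b' ≫ v) (u' ≫ g₁) hl
  have hv1 : v' ≫ pullback.fst w b = pullback.fst u b' ≫ v := pullback.lift_fst _ _ _
  have hv2 : v' ≫ w' = u' ≫ g₁ := pullback.lift_snd _ _ _
  have sqV : IsPullback (pullback.fst u b') v' v (pullback.fst w b) := by
    refine IsPullback.of_bot ?_ hv1.symm (IsPullback.of_hasPullback w b)
    rw [hv2, ← hcomm]
    exact sqX
  have hchar : ringChar k' = ringChar k := (Algebra.ringChar_eq k k').symm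
  have hv : EtAcyc.IsLocAcyclicN v' L n :=
    isLocAcyclicN_mono v' (fun ℓ hℓ hp => mem_primesInvertibleOn_field hp (hchar ▸ hL ℓ hℓ hp))
      (isULocAcyclic_perfect k' K' n v' _ _ sqV)
  haveI : Surjective v := ⟨fun x => ⟨(default : Spec (CommRingCat.of K')), Subsingleton.elim _ _⟩⟩
  haveI : Surjective v' := MorphismProperty.of_isPullback (P := @Surjective) sqV inferInstance
  have h1 : EtAcyc.IsLocAcyclicN (v' ≫ w') L n :=
    ((S3514.result v' w' v'.surjective L n).1 hv).1 (isLocAcyclicN_of_univHomeo w' L n)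
  rw [hv2] at h1
  exact ((S3514.result u' g₁ u'.surjective L n).1 (isLocAcyclicN_of_univHomeo u' L n)).2 h1

/-- extensions of separably closed fields: the base changes satisfy the comparison -/
theorem compN_fieldExt {k K : Type u} [Field k] [IsSepClosed k] [Field K] [IsSepClosed K] (φ : k →+* K) (L : Set ℕ)
    (hL : ∀ ℓ ∈ L, ℓ.Prime → ℓ ≠ ringChar k) (n : ℕ) {P : Scheme.{u}} (a : P ⟶ Spec (CommRingCat.of k)) :
    EtAcyc.CompN (pullback.fst a (Spec.map (CommRingCat.ofHom φ))) L n := by
  letI : Algebra k K := φ.toAlgebra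
  haveI : IsSepClosed (IsLocalRing.ResidueField k) := UBC.isSepClosed_residueField_field k
  haveI : IsSepClosed (IsLocalRing.ResidueField K) := UBC.isSepClosed_residueField_field K
  haveI : IsLocalHom φ := ⟨fun x hx => isUnit_iff_ne_zero.2 fun h => hx.ne_zero (by rw [h, map_zero])⟩
  exact UBC.compN_baseChange φ (fun Q c => isULocAcyclic_fieldExt k K L hL n (pullback.fst c _) (pullback.snd c _) c
    (IsPullback.of_hasPullback c _).flip) a

/-- extensions of separably closed fields are universally acyclic -/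
theorem isUAcyclicN_fieldExt (k K : Type u) [Field k] [IsSepClosed k] [Field K] [IsSepClosed K] [Algebra k K]
    (L : Set ℕ) (hL : ∀ ℓ ∈ L, ℓ.Prime → ℓ ≠ ringChar k) (n : ℕ) :
    EtAcyc.IsUAcyclicN (Spec.map (CommRingCat.ofHom (algebraMap k K))) L n := by
  intro X₁ Y₁ g₁ b' b sq V
  have sq' : IsPullback (EtAcyc.prj g₁ V) (pullback.snd V.hom g₁ ≫ b') (V.hom ≫ b)
      (Spec.map (CommRingCat.ofHom (algebraMap k K))) :=
    (IsPullback.of_hasPullback V.hom g₁).paste_vert sq.flip
  exact UBC.compN_of_iso _ _ sq'.isoPullback.inv sq'.isoPullback_inv_fst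
    (compN_fieldExt (algebraMap k K) L hL n (V.hom ≫ b))

end Groth.Agent.SmAcyc
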