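import Groth.Agent.SmAcyc.FibreConst

/-!
# Tensor products over strict localizations
-/

set_option autoImplicit false
set_option linter.style.haveILetI false
set_option backward.isDefEq.respectTransparency.types false

universe u

open CategoryTheory CategoryTheory.Limits AlgebraicGeometry Opposite IsLocalRing TensorProduct

namespace Groth.Agent.SmAcyc

open Groth.Agent.EtLimit Groth.Agent.EtFound Groth.Agent.EtBC

/-- constant coefficients along an isomorphism -/
theorem nonempty_const_equiv {X X' : Scheme.{u}} (e : X' ≅ X) (M : Type) [AddCommGroup M] (q : ℕ) :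
    Nonempty (EtCoh.H X (EtCoh.const X M) q ≃+ EtCoh.H X' (EtCoh.const X' M) q) := by
  haveI := pull_preservesFiniteLimits e.hom
  exact ⟨(AddEquiv.ofBijective _ (Hpull_bijective_of_isIso (k := e.hom) (EtCoh.const X M) q)).trans
    ((asIso ((EtCoh.HF X' q).map (EtCore.pullConst e.hom M).hom)).addCommGroupIsoToAddEquiv)⟩

variable {R R' : Type u} [CommRing R] [CommRing R'] [HenselianLocalRing R] [HenselianLocalRing R']
  [IsSepClosed (ResidueField R)] [IsSepClosed (ResidueField R')] [Algebra R R'] [IsLocalHom (algebraMap R R')]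
  {L : Set ℕ} (hA : ∀ q, UBC.BCLoc (Spec.map (CommRingCat.ofHom (algebraMap R R'))) L q)

include hA in
/-- constant coefficients on the fibre as a tensor product -/
theorem tensor_fibre_const (Ω : Type u) [Field Ω] [IsSepClosed Ω] [Algebra R Ω] (n : ℕ)
    (hn : EtAcyc.PrimesIn L n) (q : ℕ) :
    (0 < q → Subsingleton (EtCoh.H (Spec (CommRingCat.of (R' ⊗[R] Ω)))
      (EtCoh.const (Spec (CommRingCat.of (R' ⊗[R] Ω))) (ZMod n)) q)) ∧
    Nonempty (EtCoh.H (Spec (CommRingCat.of (R' ⊗[R] Ω)))
      (EtCoh.const (Spec (CommRingCat.of (R' ⊗[R] Ω))) (ZMod n)) 0 ≃+ ZMod n) := by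
  let h := Spec.map (CommRingCat.ofHom (algebraMap R R'))
  let c := Spec.map (CommRingCat.ofHom (algebraMap R Ω))
  obtain ⟨h1, ⟨e0⟩⟩ := fibre_const (algebraMap R R') hA Ω c n hn q
  let e : Spec (CommRingCat.of (R' ⊗[R] Ω)) ≅ pullback c h :=
    (pullbackSpecIso R R' Ω).symm ≪≫ pullbackSymmetry h c
  refine ⟨fun hq => ?_, ?_⟩
  · obtain ⟨E⟩ := nonempty_const_equiv e (ZMod n) q
    haveI := h1 hq
    exact E.surjective.subsingleton
  · obtain ⟨E⟩ := nonempty_const_equiv e (ZMod n) 0
    exact ⟨E.symm.trans e0⟩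

/-- primes dividing an integer nonzero in a field over the residue field -/
theorem primesIn_of_ne_zero {S : Type u} [CommRing S] [IsLocalRing S] {K : Type u} [Field K] (τ : ResidueField S →+* K)
    {n : ℕ} (hn : (n : K) ≠ 0) : EtAcyc.PrimesIn (EtAcyc.primesInvertibleOn (Spec (CommRingCat.of S))) n := by
  refine ⟨Nat.pos_of_ne_zero fun h0 => hn (by rw [h0, Nat.cast_zero]), fun p hp hpn => ?_⟩
  refine mem_primesInvertibleOn_local hp fun h0 => hn ?_
  obtain ⟨d, rfl⟩ := hpn
  rw [Nat.cast_mul, show (p : K) = 0 from (map_natCast τ p).symm.trans ((congrArg τ h0).trans (map_zero τ)),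
    zero_mul]

end Groth.Agent.SmAcyc
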