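import Groth.Agent.CurveKummer.HOne
import Groth.Agent.Curve11.MuAffineLine
import Groth.Agent.RegLoc6.Basic
import Groth.Agent.S2821
import Groth.Agent.S0108
import Mathlib.RingTheory.Henselian
import Mathlib.FieldTheory.IsSepClosed
import Mathlib.RingTheory.Localization.Away.Basic

/-!
# Kummer classes on the complement of a regular parameter
-/

set_option autoImplicit false
set_option linter.style.haveILetI false
set_option backward.isDefEq.respectTransparency false
set_option backward.isDefEq.respectTransparency.types false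

universe u

open CategoryTheory CategoryTheory.Limits AlgebraicGeometry Opposite CategoryTheory.Abelian

namespace Groth.Agent.SmAcyc

open Groth.Agent.EtTrace Groth.Agent.GmH1Lib

section generic

variable {X : Scheme.{u}}

/-- degree zero cohomology of `G_m` -/
noncomputable def h0UnitsEquiv (X : Scheme.{u}) : EtCoh.H X (EtCoh.Gm X) 0 ≃+ Additive Γ(X, ⊤)ˣ :=
  AddEquiv.trans
    (Sheaf.H.equiv₀ (EtCoh.Gm X) (GrLib8.PicH1.topZOIsTerminal X))
    (AddEquiv.mk' ⟨fun s => Additive.ofMul (uval s), fun a => umk a.toMul, fun s => umk_uval s,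
      fun a => congrArg Additive.ofMul (uval_umk a.toMul)⟩ fun s t => congrArg Additive.ofMul (uval_add s t))

/-- with trivial Picard group the first cohomology of `μ_n` is units modulo `n`-th powers -/
theorem nonempty_H_mu_one (n : ℕ) (hn : IsUnit (n : Γ(X, ⊤)))
    (hpic : ∀ L : X.Modules, PicF.IsInvertible L → Nonempty (L ≅ Coh.structureModule X))
    {C : Type*} [AddCommGroup C] (ψ : Additive Γ(X, ⊤)ˣ →+ C) (hs : Function.Surjective ψ)
    (hk : ∀ x, ψ x = 0 ↔ ∃ y, n • y = x) :
    Nonempty (EtCoh.H X (EtCoh.mu X n) 1 ≃+ C) := by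
  haveI := S0108.result X n hn
  haveI := (GmH1Lib.subsingleton_H1_Gm_iff X).2 hpic
  let S := ShortComplex.mk (EtCoh.muι X n) (EtCoh.powMap X n) (kernel.condition _)
  have hS : S.ShortExact :=
    { exact := ShortComplex.exact_of_f_is_kernel _ (kernelIsKernel _)
      mono_f := inferInstanceAs (Mono (kernel.ι _))
      epi_g := S0108.result X n hn }
  let δ : EtCoh.H X (EtCoh.Gm X) 0 →+ EtCoh.H X (EtCoh.mu X n) 1 :=
    AddMonoidHom.mk' (fun y => Ext.comp y hS.extClass (rfl : 0 + 1 = 1)) fun a b => Ext.add_comp a b _ _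
  let φ := h0UnitsEquiv X
  have key : ∀ y : EtCoh.H X (EtCoh.Gm X) 0, n • y = Ext.comp y (Ext.mk₀ S.g) (add_zero 0) := fun y =>
    nsmul_eq_comp y n
  refine CurveKummer.nonempty_addEquiv_of_ker_eq δ (ψ.comp φ.toAddMonoidHom) (fun x => ?_)
    (hs.comp φ.surjective) (AddSubgroup.ext fun y => ?_)
  · exact Ext.covariant_sequence_exact₁ _ hS x (Subsingleton.elim (α := EtCoh.H X (EtCoh.Gm X) 1) _ _)
      (rfl : 0 + 1 = 1)
  · simp only [AddMonoidHom.mem_ker]
    show δ y = 0 ↔ ψ (φ y) = 0
    rw [hk]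
    constructor
    · intro h
      obtain ⟨z, hz⟩ := Ext.covariant_sequence_exact₃ _ hS y (rfl : 0 + 1 = 1) h
      refine ⟨φ z, ?_⟩
      rw [← map_nsmul, key z]
      exact congrArg φ hz
    · rintro ⟨z, hz⟩
      have hy : y = n • φ.symm z := by rw [← map_nsmul, hz, φ.symm_apply_apply]
      rw [hy, key]
      show Ext.comp (Ext.comp (φ.symm z) (Ext.mk₀ S.g) (add_zero 0)) hS.extClass (rfl : 0 + 1 = 1) = 0
      rw [Ext.comp_assoc_of_second_deg_zero, hS.comp_extClass, Ext.comp_zero]

end generic

section units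

/-- units of a henselian local ring with separably closed residue field have `n`-th roots -/
theorem exists_unit_root {A : Type u} [CommRing A] [HenselianLocalRing A] [IsSepClosed (IsLocalRing.ResidueField A)]
    {n : ℕ} (hn : IsUnit (n : A)) (u : Aˣ) : ∃ v : Aˣ, v ^ n = u := by
  have hn0 : n ≠ 0 := fun h => by simp [h] at hn
  haveI : NeZero (n : IsLocalRing.ResidueField A) :=
    ⟨by rw [← map_natCast (IsLocalRing.residue A)]; exact (hn.map _).ne_zero⟩
  obtain ⟨z, hz⟩ := IsSepClosed.exists_pow_nat_eq (IsLocalRing.residue A (u : A)) n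
  obtain ⟨a, rfl⟩ := IsLocalRing.residue_surjective z
  have hau : IsUnit a := by
    refine IsUnit.of_map (IsLocalRing.residue A) a ((isUnit_pow_iff hn0).1 ?_)
    rw [hz]
    exact u.isUnit.map _
  obtain ⟨r, hr, -⟩ := HenselianLocalRing.is_henselian (Polynomial.X ^ n - Polynomial.C (u : A))
    (Polynomial.monic_X_pow_sub_C _ hn0) a
    (by
      rw [← IsLocalRing.residue_eq_zero_iff]
      simp only [Polynomial.eval_sub, Polynomial.eval_pow, Polynomial.eval_X, Polynomial.eval_C, map_sub, map_pow, hz,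
        sub_self])
    (by
      simp only [Polynomial.derivative_sub, Polynomial.derivative_X_pow, Polynomial.derivative_C, sub_zero,
        Polynomial.eval_mul, Polynomial.eval_C, Polynomial.eval_pow, Polynomial.eval_X]
      exact hn.mul (hau.pow _))
  rw [Polynomial.IsRoot.def, Polynomial.eval_sub, Polynomial.eval_pow, Polynomial.eval_X, Polynomial.eval_C,
    sub_eq_zero] at hr
  have hru : IsUnit r := (isUnit_pow_iff hn0).1 (hr ▸ u.isUnit)
  exact ⟨hru.unit, Units.ext (by rw [Units.val_pow_eq_pow_val, IsUnit.unit_spec, hr])⟩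

variable {A : Type u} [CommRing A] [IsDomain A] {x : A}

/-- a power of the inverted element times a unit -/
noncomputable def awayUnits (x : A) : Aˣ × Multiplicative ℤ →* (Localization.Away x)ˣ :=
  MonoidHom.coprod (Units.map (algebraMap A (Localization.Away x)).toMonoidHom)
    (zpowersHom _ (IsLocalization.Away.algebraMap_isUnit x (S := Localization.Away x)).unit)

omit [IsDomain A] in
theorem awayUnits_apply (u : Aˣ) (k : ℤ) :
    awayUnits x (u, Multiplicative.ofAdd k) = Units.map (algebraMap A (Localization.Away x)).toMonoidHom u *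
      (IsLocalization.Away.algebraMap_isUnit x (S := Localization.Away x)).unit ^ k := rfl

theorem awayUnits_bijective (hx : Prime x) : Function.Bijective (awayUnits x) := by
  let X := (IsLocalization.Away.algebraMap_isUnit x (S := Localization.Away x)).unit
  have hX : ∀ m : ℕ, ((X ^ m : (Localization.Away x)ˣ) : Localization.Away x) = algebraMap A _ (x ^ m) := fun m => by
    rw [Units.val_pow_eq_pow_val, IsUnit.unit_spec, map_pow]
  have hinj : Function.Injective (algebraMap A (Localization.Away x)) :=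
    IsLocalization.injective _ (powers_le_nonZeroDivisors_of_noZeroDivisors hx.ne_zero)
  refine ⟨(injective_iff_map_eq_one _).2 ?_, fun v => ?_⟩
  · rintro ⟨u, k⟩ h
    obtain ⟨k, rfl⟩ := Multiplicative.ofAdd.surjective k
    rw [awayUnits_apply] at h
    obtain ⟨m, rfl | rfl⟩ := Int.eq_nat_or_neg k
    · rw [zpow_natCast] at h
      have h1 : (u : A) * x ^ m = 1 := hinj (by
        rw [map_mul, map_one, ← hX]
        exact congrArg Units.val h)
      cases m with
      | zero =>
        rw [pow_zero, mul_one] at h1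
        obtain rfl : u = 1 := Units.ext h1
        rfl
      | succ m => exact absurd (isUnit_of_dvd_one ⟨(u : A) * x ^ m, by rw [← h1, pow_succ]; ring⟩) hx.not_isUnit
    · rw [zpow_neg, zpow_natCast, mul_inv_eq_one] at h
      have h1 : (u : A) = x ^ m := hinj (by
        rw [← hX]
        exact congrArg Units.val h)
      cases m with
      | zero =>
        rw [pow_zero] at h1
        obtain rfl : u = 1 := Units.ext h1
        rfl
      | succ m =>
        exact absurd (isUnit_of_dvd_unit (dvd_pow_self x (Nat.succ_ne_zero m)) (h1 ▸ u.isUnit)) hx.not_isUnit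
  · obtain ⟨a, ⟨_, i, rfl⟩, ha⟩ := IsLocalization.exists_mk'_eq (Submonoid.powers x) (v : Localization.Away x)
    obtain ⟨b, ⟨_, j, rfl⟩, hb⟩ := IsLocalization.exists_mk'_eq (Submonoid.powers x) ((v⁻¹ : (Localization.Away x)ˣ) : Localization.Away x)
    have h1 : (v : Localization.Away x) * algebraMap A _ (x ^ i) = algebraMap A _ a := by
      rw [← ha, IsLocalization.mk'_spec]
    have h2 : ((v⁻¹ : (Localization.Away x)ˣ) : Localization.Away x) * algebraMap A _ (x ^ j) = algebraMap A _ b := by
      rw [← hb, IsLocalization.mk'_spec]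
    have h3 : a * b = x ^ (i + j) := hinj (by
      rw [map_mul, ← h1, ← h2, pow_add, map_mul,
        mul_mul_mul_comm, Units.mul_inv, one_mul])
    obtain ⟨l, -, hl⟩ := (dvd_prime_pow hx (i + j)).1 ⟨b, h3.symm⟩
    obtain ⟨w, hw⟩ := hl.symm
    refine ⟨(w, Multiplicative.ofAdd ((l : ℤ) - i)), ?_⟩
    rw [awayUnits_apply, zpow_sub, zpow_natCast, zpow_natCast, ← mul_assoc, mul_inv_eq_iff_eq_mul]
    refine Units.ext ?_
    rw [Units.val_mul, Units.val_mul, hX, hX, h1, ← hw, map_mul, mul_comm]
    rfl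

/-- units of the punctured spectrum modulo `n`-th powers -/
theorem exists_units_mod (hx : Prime x) {n : ℕ} (hroot : ∀ u : Aˣ, ∃ v : Aˣ, v ^ n = u) :
    ∃ ψ : Additive (Localization.Away x)ˣ →+ ZMod n, Function.Surjective ψ ∧
      ∀ v, ψ v = 0 ↔ ∃ w, n • w = v := by
  let e := MulEquiv.ofBijective (awayUnits x) (awayUnits_bijective hx)
  let ψ : Additive (Localization.Away x)ˣ →+ ZMod n :=
    { toFun := fun v => ((e.symm v.toMul).2.toAdd : ℤ)
      map_zero' := by simp
      map_add' := fun v w => by simp }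
  refine ⟨ψ, fun c => ?_, fun v => ⟨fun h => ?_, ?_⟩⟩
  · obtain ⟨k, rfl⟩ := ZMod.intCast_surjective c
    exact ⟨Additive.ofMul (e (1, Multiplicative.ofAdd k)), by simp [ψ]⟩
  · obtain ⟨⟨u, k⟩, hv⟩ := e.surjective v.toMul
    have hk : ((k.toAdd : ℤ) : ZMod n) = 0 := by
      rw [← h]
      show _ = ((e.symm v.toMul).2.toAdd : ZMod n)
      rw [← hv, e.symm_apply_apply]
    obtain ⟨m, hm⟩ := (ZMod.intCast_zmod_eq_zero_iff_dvd _ _).1 hk
    obtain ⟨w, rfl⟩ := hroot u
    refine ⟨Additive.ofMul (e (w, Multiplicative.ofAdd m)), ?_⟩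
    rw [← ofMul_pow, ← map_pow, Prod.pow_mk, ← ofAdd_nsmul, nsmul_eq_mul, ← hm, ofAdd_toAdd, hv, ofMul_toMul]
  · rintro ⟨w, rfl⟩
    rw [map_nsmul, nsmul_eq_mul, ZMod.natCast_self, zero_mul]

end units

/-- the first cohomology of `μ_n` off a regular parameter of a strictly henselian regular local ring -/
theorem nonempty_H_mu_one_punctured (A : Type u) [CommRing A] [IsRegularLocalRing A]
    (hA : EtCoh.IsStrictlyHenselianLocalRing A) (x : A) (hx : x ∈ IsLocalRing.maximalIdeal A)
    (hx2 : x ∉ (IsLocalRing.maximalIdeal A) ^ 2) (n : ℕ) (hn : IsUnit (n : A)) :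
    Nonempty (EtCoh.H (Spec (CommRingCat.of (Localization.Away x)))
      (EtCoh.mu (Spec (CommRingCat.of (Localization.Away x))) n) 1 ≃+ ZMod n) := by
  obtain ⟨_, hsc⟩ := hA
  haveI := hsc
  obtain ⟨_, _⟩ := S2821.result A
  have hprime : Prime x := by
    haveI := (RegLoc6.isRegularLocalRing_quot_and hx hx2).1
    haveI := RegLoc6.isDomain_of_isRegularLocalRing (A ⧸ Ideal.span {x})
    exact (Ideal.span_singleton_prime fun h : x = 0 => hx2 (by rw [h]; exact Submodule.zero_mem _)).1
      ((Ideal.Quotient.isDomain_iff_prime _).1 inferInstance)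
  obtain ⟨ψ, hψs, hψk⟩ := exists_units_mod hprime (exists_unit_root hn)
  let P := CommRingCat.of (Localization.Away x)
  let e : (Γ(Spec P, ⊤))ˣ ≃* (Localization.Away x)ˣ :=
    Units.mapEquiv ((Scheme.ΓSpecIso P).commRingCatIsoToRingEquiv).toMulEquiv
  refine nonempty_H_mu_one n ?_ (Curve11.pic_trivial_of_iso (basicOpenIsoSpecAway (R := CommRingCat.of A) x).symm
    fun L hL => InvUfdLib.nonempty_iso (R := CommRingCat.of A) (PrimeSpectrum.basicOpen x) L hL)
    (ψ.comp e.toAdditive.toAddMonoidHom) (hψs.comp e.toAdditive.surjective) fun v => ?_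
  · have h1 : IsUnit (n : Localization.Away x) := by
      rw [← map_natCast (algebraMap A (Localization.Away x))]
      exact hn.map _
    have h2 := h1.map (Scheme.ΓSpecIso P).inv.hom
    rwa [map_natCast] at h2
  · show ψ (e.toAdditive v) = 0 ↔ _
    rw [hψk]
    exact ⟨fun ⟨w, hw⟩ => ⟨e.toAdditive.symm w, by rw [← map_nsmul, hw, AddEquiv.symm_apply_apply]⟩,
      fun ⟨w, hw⟩ => ⟨e.toAdditive w, by rw [← map_nsmul, hw]⟩⟩

end Groth.Agent.SmAcyc
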