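import Groth.Agent.SmAcyc.HensLine
import Mathlib.FieldTheory.IsAlgClosed.AlgebraicClosure
import Mathlib.RingTheory.IsTensorProduct

/-!
# The geometric fibres of the henselian affine line
-/

set_option autoImplicit false
set_option linter.style.haveILetI false
set_option backward.isDefEq.respectTransparency.types false

universe u

open CategoryTheory CategoryTheory.Limits AlgebraicGeometry Opposite IsLocalRing TensorProduct Polynomial

namespace Groth.Agent.SmAcyc

open Groth.Agent.EtFound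

/-- the spectrum of an ind-étale algebra is a chart -/
theorem isChart_spec {R T : Type u} [CommRing R] [CommRing T] [Algebra R T] (h : EtPBC.IsIndEtale R T) :
    IndEtStrict.IsChart (Spec.map (CommRingCat.ofHom (algebraMap R T))) := by
  let e := Scheme.ΓSpecIso (CommRingCat.of R)
  let G := Γ(Spec (CommRingCat.of R), ⊤)
  letI aG : Algebra G R := e.hom.hom.toAlgebra
  haveI : Algebra.Etale G R := RingHom.etale_algebraMap.1
    (RingHom.Etale.of_bijective (f := e.hom.hom) e.commRingCatIsoToRingEquiv.bijective)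
  letI aT : Algebra G T := ((algebraMap R T).comp e.hom.hom).toAlgebra
  haveI : IsScalarTower G R T := IsScalarTower.of_algebraMap_eq fun _ => rfl
  refine ⟨T, inferInstance, Iso.refl _, ⊤, isAffineOpen_top _, (algebraMap R T).comp e.hom.hom,
    S0734.result G R T (IndEtStrict.isIndEtale_of_etale G R) h, ?_⟩
  rw [Iso.refl_hom, Category.id_comp, CommRingCat.ofHom_comp, Spec.map_comp, Category.assoc]
  have h1 : Spec.map (CommRingCat.ofHom e.hom.hom) ≫ (isAffineOpen_top (Spec (CommRingCat.of R))).fromSpec =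
      𝟙 _ := by
    rw [IsAffineOpen.fromSpec_top, Scheme.isoSpec_Spec, CommRingCat.ofHom_hom]
    simp [e]
  rw [h1, Category.comp_id]

/-- henselizations are ind-étale -/
theorem isIndEtale_henselization (R S : Type u) [CommRing R] [IsLocalRing R] [CommRing S] [IsLocalRing S]
    [Algebra R S] [IsLocalHom (algebraMap R S)] [_root_.Hensel.IsHenselization R S] : EtPBC.IsIndEtale R S := by
  obtain ⟨e⟩ := Groth.Agent.Hensel.exists_algEquiv_localHenz R S
  exact Groth.Agent.Hensel.isIndEtale_of_algEquiv (Groth.Agent.Hensel.isIndEtale_henz R (ResidueField R)) e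

/-- there is a prime different from the residue characteristic -/
theorem exists_prime_ne_zero (k : Type u) [Field k] : ∃ ℓ : ℕ, ℓ.Prime ∧ (ℓ : k) ≠ 0 := by
  by_cases h2 : ((2 : ℕ) : k) = 0
  · refine ⟨3, Nat.prime_three, fun h3 => one_ne_zero (α := k) ?_⟩
    have : ((3 : ℕ) : k) = ((2 : ℕ) : k) + 1 := by rw [← Nat.cast_one, ← Nat.cast_add]
    rw [h2, zero_add, h3] at this
    exact this.symm
  · exact ⟨2, Nat.prime_two, h2⟩

variable (A : Type u) [CommRing A] [HenselianLocalRing A]
  (P : Ideal A[X]) (hP : P = (maximalIdeal A).map Polynomial.C ⊔ Ideal.span {Polynomial.X})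
  [P.IsPrime] (B : Type u) [CommRing B] [IsLocalRing B] [Algebra (Localization.AtPrime P) B]
  [IsLocalHom (algebraMap (Localization.AtPrime P) B)] [_root_.Hensel.IsHenselization (Localization.AtPrime P) B]

attribute [local instance] Polynomial.algebra

include hP in
set_option maxHeartbeats 1000000 in
/-- acyclicity of the geometric fibres of the henselian line -/
theorem hensLine_acyclic (hcd : AffineCurveCd.{u}) (φ : A →+* B) (hφ : φ = (algebraMap (Localization.AtPrime P) B).comp
      ((algebraMap A[X] (Localization.AtPrime P)).comp Polynomial.C)) (n : ℕ)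
    (Ω : Type u) [Field Ω] [IsSepClosed Ω] (c : Spec (CommRingCat.of Ω) ⟶ Spec (CommRingCat.of A)) :
    EtAcyc.IsAcyclicSchemeN {ℓ : ℕ | ℓ.Prime ∧ (ℓ : ResidueField A) ≠ 0} n
      (pullback (Spec.map (CommRingCat.ofHom φ)) c) := by
  classical
  letI aAB : Algebra A B := φ.toAlgebra
  obtain ⟨hloc, hres⟩ := residue_line A P hP B (show algebraMap A B = _ from hφ)
  haveI := hloc
  haveI : HenselianLocalRing B := _root_.Hensel.IsHenselization.henselian (R := Localization.AtPrime P)
  obtain ⟨A', _, _, _, _, hA'⟩ := S0537.result A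
  haveI : IsSepClosed (ResidueField A') := hA'.isSepClosure.sep_closed
  haveI : HenselianLocalRing A' := hA'.henselian
  haveI := isIntegral_of_indEtale_local (S12237.result A A')
  haveI := Groth.Agent.Hensel.faithfullyFlat_of_isStrictHenselization A A'
  obtain ⟨hT, hTsep, hTloc⟩ := tensor_strictlyHenselian (A' := A') hres
  haveI := hT
  haveI := hTsep
  haveI := hTloc
  -- the chart
  let ι : A[X] →+* B := (algebraMap (Localization.AtPrime P) B).comp (algebraMap A[X] (Localization.AtPrime P))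
  letI aXB : Algebra A[X] B := ι.toAlgebra
  haveI : IsScalarTower A[X] (Localization.AtPrime P) B := IsScalarTower.of_algebraMap_eq fun _ => rfl
  haveI : IsScalarTower A A[X] B := IsScalarTower.of_algebraMap_eq fun a => RingHom.congr_fun hφ a
  have hXB : EtPBC.IsIndEtale A[X] B := S0734.result A[X] (Localization.AtPrime P) B
    (IndZarLib.isIndEtale_of_isIndZariski (IndEtLib.isIndZariski_localization P.primeCompl (Localization.AtPrime P)))
    (isIndEtale_henselization (Localization.AtPrime P) B)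
  let e : A'[X] ⊗[A[X]] B ≃ₐ[A'] A' ⊗[A] B := Algebra.IsPushout.cancelBaseChangeAlg A A' A[X] A'[X] B
  let ε : A'[X] →+* A' ⊗[A] B := e.toAlgHom.toRingHom.comp (algebraMap A'[X] (A'[X] ⊗[A[X]] B))
  letI aXT : Algebra A'[X] (A' ⊗[A] B) := ε.toAlgebra
  have hind : EtPBC.IsIndEtale A'[X] (A' ⊗[A] B) := Groth.Agent.Hensel.isIndEtale_of_algEquiv
    (S0733.result A[X] B A'[X] hXB) (AlgEquiv.ofRingEquiv (f := e.toRingEquiv) fun _ => rfl)
  have hεC : ε.comp C = algebraMap A' (A' ⊗[A] B) := RingHom.ext fun a => e.commutes a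
  let ρ : Spec (CommRingCat.of A'[X]) ⟶ Spec (CommRingCat.of A') := Spec.map (CommRingCat.ofHom C)
  haveI : Smooth ρ := by
    refine (HasRingHomProperty.Spec_iff (P := @Smooth)).2 ?_
    rw [CommRingCat.hom_ofHom, ← Polynomial.algebraMap_eq]
    exact RingHom.smooth_algebraMap.2 ⟨inferInstance, Algebra.FinitePresentation.equiv (MvPolynomial.uniqueAlgEquiv.{_, 0} A' PUnit)⟩
  have hq2 : Spec.map (CommRingCat.ofHom ε) ≫ ρ = Spec.map (CommRingCat.ofHom (algebraMap A' (A' ⊗[A] B))) := by
    rw [← Spec.map_comp, ← CommRingCat.ofHom_comp, hεC]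
  have hA := bcLoc_of_chart ρ _ _ hq2 (isChart_spec hind) (isULocAcyclic_smooth hcd ρ n)
  -- the point
  let Ωb := AlgebraicClosure Ω
  let ι₀ := Spec.map (CommRingCat.ofHom (algebraMap Ω Ωb))
  letI aΩ : Algebra A Ωb := ((algebraMap Ω Ωb).comp (Spec.preimage c).hom).toAlgebra
  haveI : Nontrivial (A' ⊗[A] Ωb) := inferInstance
  letI : Algebra Ωb (A' ⊗[A] Ωb) := Algebra.TensorProduct.rightAlgebra
  haveI : Algebra.IsIntegral Ωb (A' ⊗[A] Ωb) := ⟨fun x => Groth.Agent.Hensel.isIntegral_includeRight A A' Ωb x⟩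
  obtain ⟨M, hM⟩ := Ideal.exists_maximal (A' ⊗[A] Ωb)
  letI := Ideal.Quotient.field M
  let Φ := RingEquiv.ofBijective _ (IsAlgClosed.algebraMap_bijective_of_isIntegral (k := Ωb) (K := (A' ⊗[A] Ωb) ⧸ M))
  let σ : A' →+* Ωb := Φ.symm.toRingHom.comp ((Ideal.Quotient.mk M).comp
    (Algebra.TensorProduct.includeLeftRingHom : A' →+* A' ⊗[A] Ωb))
  have hσ : σ.comp (algebraMap A A') = algebraMap A Ωb := RingHom.ext fun a => Φ.symm_apply_eq.2 (by
    show Ideal.Quotient.mk M (algebraMap A A' a ⊗ₜ[A] (1 : Ωb)) =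
      Ideal.Quotient.mk M ((1 : A') ⊗ₜ[A] algebraMap A Ωb a)
    rw [Algebra.algebraMap_eq_smul_one, TensorProduct.smul_tmul, Algebra.algebraMap_eq_smul_one])
  let c' := Spec.map (CommRingCat.ofHom σ)
  have hc' : c' ≫ Spec.map (CommRingCat.ofHom (algebraMap A A')) = ι₀ ≫ c := by
    rw [← Spec.map_comp, ← CommRingCat.ofHom_comp, hσ]
    show Spec.map (CommRingCat.ofHom ((algebraMap Ω Ωb).comp (Spec.preimage c).hom)) = _
    rw [CommRingCat.ofHom_comp, Spec.map_comp, CommRingCat.ofHom_hom, Spec.map_preimage]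
  -- the fibre
  have hL : ∃ ℓ ∈ {ℓ : ℕ | ℓ.Prime ∧ (ℓ : ResidueField A) ≠ 0}, ℓ.Prime := by
    obtain ⟨ℓ, h1, h2⟩ := exists_prime_ne_zero (ResidueField A)
    exact ⟨ℓ, ⟨h1, h2⟩, h1⟩
  have hsub : ∀ ℓ ∈ {ℓ : ℕ | ℓ.Prime ∧ (ℓ : ResidueField A) ≠ 0}, ℓ.Prime →
      ℓ ∈ EtAcyc.primesInvertibleOn (Spec (CommRingCat.of A')) := fun ℓ hℓ hp =>
    mem_primesInvertibleOn_local hp fun h0 => hℓ.2 ((ResidueField.map (algebraMap A A')).injective
      ((map_natCast _ ℓ).trans (h0.trans (map_zero _).symm)))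
  have h0 := UBC.isAcyclicSchemeN_point (algebraMap A' (A' ⊗[A] B))
    (fun Pm a => isLocAcyclicN_mono _ hsub (hA Pm a)) hL Ωb c'
  have hT' := isPullback_SpecMap_of_isPushout _ _ _ _ (CommRingCat.isPushout_tensorProduct A A' B)
  let ψT := Spec.map (CommRingCat.ofHom (algebraMap A' (A' ⊗[A] B)))
  let hφS := Spec.map (CommRingCat.ofHom φ)
  have sq1 : IsPullback (pullback.fst c' ψT) (pullback.snd c' ψT ≫ Spec.map (CommRingCat.ofHom
      (Algebra.TensorProduct.includeRight : B →ₐ[A] A' ⊗[A] B).toRingHom)) (ι₀ ≫ c) hφS := by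
    rw [← hc']
    exact ((IsPullback.of_hasPullback c' ψT).flip.paste_horiz hT'.flip).flip
  have sq2 : IsPullback (pullback.snd (pullback.snd hφS c) ι₀)
      (pullback.fst (pullback.snd hφS c) ι₀ ≫ pullback.fst hφS c) (ι₀ ≫ c) hφS :=
    ((IsPullback.of_hasPullback (pullback.snd hφS c) ι₀).paste_horiz (IsPullback.of_hasPullback hφS c)).flip
  have h1 := AcycCover.isAcyclicSchemeN_of_iso (IsPullback.isoIsPullback _ _ sq2 sq1) h0
  haveI : IsPurelyInseparable Ω Ωb := inferInstance
  have hint : (algebraMap Ω Ωb).IsIntegral := fun x => Algebra.IsIntegral.isIntegral x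
  haveI : IsIntegralHom ι₀ := IsIntegralHom.SpecMap_iff.2 hint
  haveI : UniversallyInjective ι₀ := (Groth.Agent.MorLib.RUH.universallyInjective_SpecMap_iff _).2
    (radicial_of_isPurelyInseparable Ω Ωb)
  haveI : Surjective ι₀ := (Groth.Agent.MorLib.RUH.surjective_SpecMap_iff _).2
    (hint.comap_surjective (algebraMap Ω Ωb).injective)
  haveI : IsIntegralHom (pullback.fst (pullback.snd hφS c) ι₀) := MorphismProperty.pullback_fst _ _ ‹IsIntegralHom ι₀›
  haveI : UniversallyInjective (pullback.fst (pullback.snd hφS c) ι₀) :=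
    MorphismProperty.pullback_fst _ _ ‹UniversallyInjective ι₀›
  haveI : Surjective (pullback.fst (pullback.snd hφS c) ι₀) :=
    MorphismProperty.pullback_fst _ _ ‹Surjective ι₀›
  exact isAcyclicSchemeN_of_universalHomeomorph (pullback.fst (pullback.snd hφS c) ι₀) h1

end Groth.Agent.SmAcyc
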