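import Groth.Agent.SmAcyc.Strict
import Groth.Agent.AcycCover.Fibres
import Groth.Agent.EtTrace.ConstPoint

/-!
# Cohomology of constant sheaves on the fibres
-/

set_option autoImplicit false
set_option linter.style.haveILetI false
set_option backward.isDefEq.respectTransparency.types false

universe u

open CategoryTheory CategoryTheory.Limits AlgebraicGeometry Opposite IsLocalRing

namespace Groth.Agent.SmAcyc

open Groth.Agent.EtLimit Groth.Agent.EtFound Groth.Agent.EtBC

/-- sections of a constant sheaf on a point -/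
theorem nonempty_H0_point (Ω : Type u) [Field Ω] (M : Type) [AddCommGroup M] :
    Nonempty (EtCoh.H (Spec (CommRingCat.of Ω)) (EtCoh.const (Spec (CommRingCat.of Ω)) M) 0 ≃+ M) := by
  let S := Spec (CommRingCat.of Ω)
  let M' : AddCommGrpCat.{u + 1} := AddCommGrpCat.of (ULift.{u + 1} M)
  haveI : Subsingleton S := inferInstanceAs (Subsingleton (PrimeSpectrum Ω))
  haveI : Nonempty S := inferInstanceAs (Nonempty (PrimeSpectrum Ω))
  let e1 := AddEquiv.ofBijective (FibreAcyc.constSec M' (EtCoh.top S)).hom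
    ⟨FibreAcyc.constSec_injective M' (EtCoh.top S) ‹Nonempty S›, EtTrace.toSheafify_top_surjective S M'⟩
  let e2 : EtCoh.H S (EtCoh.const S M) 0 ≃+ _ :=
    AddEquiv.ofBijective (AddMonoidHom.mk' (hSec (EtCoh.const S M)) (hSec_add (EtCoh.const S M)))
      (hSec_bijective (EtCoh.const S M))
  exact ⟨(e2.trans e1.symm).trans AddEquiv.ulift⟩

variable {R R' : Type u} [CommRing R] [CommRing R'] [HenselianLocalRing R] [HenselianLocalRing R']
  [IsSepClosed (ResidueField R)] [IsSepClosed (ResidueField R')] (φ : R →+* R') [IsLocalHom φ]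
  {L : Set ℕ} (hA : ∀ q, UBC.BCLoc (Spec.map (CommRingCat.ofHom φ)) L q)

include hA in
/-- constant coefficients on all the geometric fibres -/
theorem fibre_const (Ω : Type u) [Field Ω] [IsSepClosed Ω]
    (c : Spec (CommRingCat.of Ω) ⟶ Spec (CommRingCat.of R)) (n : ℕ) (hn : EtAcyc.PrimesIn L n) (q : ℕ) :
    (0 < q → Subsingleton (EtCoh.H (pullback c (Spec.map (CommRingCat.ofHom φ)))
      (EtCoh.const (pullback c (Spec.map (CommRingCat.ofHom φ))) (ZMod n)) q)) ∧
    Nonempty (EtCoh.H (pullback c (Spec.map (CommRingCat.ofHom φ)))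
      (EtCoh.const (pullback c (Spec.map (CommRingCat.ofHom φ))) (ZMod n)) 0 ≃+ ZMod n) := by
  let pr := pullback.fst c (Spec.map (CommRingCat.ofHom φ))
  haveI := pull_preservesFiniteLimits pr
  let C := EtCoh.const (Spec (CommRingCat.of R)) (ZMod n)
  have hM : EtAcyc.IsLTorsion L C := by
    refine GenAcyc.isLTorsion_const _ _ fun a => ⟨n, hn, ?_⟩
    ext
    simp
  haveI : IsIso (appOf (θPull pr c (pr ≫ c) rfl) C) := by delta appOf; infer_instance
  have hbij : ∀ q, Function.Bijective (EtCore.Hpull pr (EtCoh.const (Spec (CommRingCat.of Ω)) (ZMod n)) q) :=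
    fun q => UnitStalk.Hpull_bijective_of_iso pr (EtCore.pullConst c (ZMod n)).inv q
      ((Function.Bijective.of_comp_iff' (EtBC.hmap_bijective_of_isIso
        (appOf (θPull pr c (pr ≫ c) rfl) C) q) _).1
        (UBC.bijective_hVia_affine φ (hA q) c C hM q le_rfl))
  refine ⟨fun hq => ?_, ?_⟩
  · haveI : IsSepClosed (ResidueField Ω) := UBC.isSepClosed_residueField_field Ω
    haveI := S0073.result Ω (EtCoh.const (Spec (CommRingCat.of Ω)) (ZMod n)) q hq
    haveI := (hbij q).2.subsingleton
    exact (EtBC.hmap_bijective_of_isIso (EtCore.pullConst pr (ZMod n)).hom q).2.subsingleton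
  · obtain ⟨e⟩ := nonempty_H0_point Ω (ZMod n)
    exact ⟨((asIso ((EtCoh.HF _ 0).map (EtCore.pullConst pr (ZMod n)).inv)).addCommGroupIsoToAddEquiv.trans
      (AddEquiv.ofBijective _ (hbij 0)).symm).trans e⟩

end Groth.Agent.SmAcyc
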