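import Groth.Agent.SmAcyc.Core.Fibre

/-!
# Smooth morphisms are locally acyclic
-/

set_option autoImplicit false

universe u

open CategoryTheory AlgebraicGeometry

namespace Groth.Agent.SmAcyc

/-- local acyclicity of smooth morphisms from the dimension bound for affine curves -/
theorem isLocAcyclic_smooth (hcd : AffineCurveCd.{u}) {X Y : Scheme.{u}} (g : X ⟶ Y) [Smooth g] :
    EtAcyc.IsLocAcyclic g (EtAcyc.primesInvertibleOn X) := fun n =>
  isLocAcyclicN_smooth n (fun _ hℓ => lineAcyc hℓ (fun m => coreAcyc hcd hℓ m) n) g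

end Groth.Agent.SmAcyc
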