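import Groth.Agent.SmAcyc.Reduce
import Groth.Agent.AcycBase.Point
import Groth.Agent.AcycBase.Fibres
import Groth.Agent.FlatShConn.Main
import Groth.Agent.GabberAff13.FieldExt
import Groth.Agent.S9332
import Mathlib.AlgebraicGeometry.Morphisms.QuasiFinite

/-!
# Local acyclicity of the affine line from the points closed in their fibres
-/

set_option autoImplicit false
set_option linter.style.haveILetI false
universe u

open CategoryTheory CategoryTheory.Limits AlgebraicGeometry Opposite IsLocalRing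

namespace Groth.Agent.SmAcyc

open Groth.Agent.EtLimit Groth.Agent.EtFound Groth.Agent.EtBC

set_option backward.isDefEq.respectTransparency.types false

/-- the residue extension at the point is finite -/
def FinPt {X Y : Scheme.{u}} (g : X ⟶ Y) (x : X) : Prop := (g.residueFieldMap x).hom.Finite

/-- finiteness of the upper extension -/
theorem finite_left {K L M : Type u} [Field K] [Field L] [Field M] (a : K →+* L) (b : L →+* M)
    (h : (b.comp a).Finite) : a.Finite := by
  letI := a.toAlgebra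
  letI := (b.comp a).toAlgebra
  haveI : Module.Finite K M := h
  show Module.Finite K L
  exact Module.Finite.of_injective
    ({ toFun := b, map_add' := map_add b, map_smul' := fun c x => map_mul b (a c) x } : L →ₗ[K] M) b.injective

theorem finPt_of_comp {X Y Z : Scheme.{u}} (f : X ⟶ Y) (g : Y ⟶ Z) (x : X) (h : FinPt (f ≫ g) x) :
    FinPt g (f x) := by
  refine finite_left _ (f.residueFieldMap x).hom ?_
  rw [← CommRingCat.hom_comp, ← Scheme.residueFieldMap_comp]
  exact h

theorem finPt_comp {X Y Z : Scheme.{u}} (f : X ⟶ Y) (g : Y ⟶ Z) (x : X) (hf : FinPt f x) (hg : FinPt g (f x)) :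
    FinPt (f ≫ g) x := by
  show ((f ≫ g).residueFieldMap x).hom.Finite
  rw [Scheme.residueFieldMap_comp]
  exact RingHom.Finite.comp hf hg

/-- points of locally quasi-finite morphisms -/
theorem finPt_of_quasiFinite {X Y : Scheme.{u}} (g : X ⟶ Y) [LocallyQuasiFinite g] [LocallyOfFiniteType g] (x : X) :
    FinPt g x := by
  refine (S9332.result g x).1 ?_
  exact ((g.quasiFiniteAt x).isClopen_singleton_asFiber).1

/-- a closed set meeting a fibre meets it at a point finite over the base -/
theorem exists_finPt {X Y : Scheme.{u}} (g : X ⟶ Y) [LocallyOfFiniteType g] {Z : Set X} (hZ : IsClosed Z) (z : X)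
    (hz : z ∈ Z) : ∃ w ∈ Z, FinPt g w := by
  let y := g z
  haveI : JacobsonSpace ↥(g.fiber y) := LocallyOfFiniteType.jacobsonSpace (g.fiberToSpecResidueField y)
  have hz' : (g.fiberι y) (g.asFiber z) = z := g.fiberι_asFiber z
  obtain ⟨v, hv, hvc⟩ := nonempty_inter_closedPoints (Z := (g.fiberι y) ⁻¹' Z)
    ⟨g.asFiber z, show (g.fiberι y) (g.asFiber z) ∈ Z by rwa [hz']⟩
    (hZ.preimage (g.fiberι y).continuous).isLocallyClosed
  refine ⟨(g.fiberι y) v, hv, ?_⟩
  have hy : g ((g.fiberι y) v) = y := by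
    have := g.range_fiberι y
    exact (Set.ext_iff.1 this _).1 ⟨v, rfl⟩
  refine (S9332.result g _).1 ?_
  let w := (g.fiberι y) v
  have h1 : ∀ (y' : Y) (e : y' = y) (a : g.fiber y'), (g.fiberι y') a = w → IsClosed ({a} : Set (g.fiber y')) := by
    intro y' e a ha
    subst e
    have ha' : a = v := (g.fiberι _).isEmbedding.injective ha
    rw [ha']
    exact hvc
  exact h1 (g w) hy (g.asFiber w) (g.fiberι_asFiber w)

/-- sheaves on schemes locally of finite type over a base vanish if they do at the points finite over the base -/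
theorem isZero_of_finPt {X Y : Scheme.{u}} (g : X ⟶ Y) [LocallyOfFiniteType g] (G : EtCoh.Ab X)
    (h : ∀ (Ω : Type u) [Field Ω] [IsSepClosed Ω] (ξ : Spec (CommRingCat.of Ω) ⟶ X),
      FinPt g (ξ.base (default : Spec (CommRingCat.of Ω))) → Subsingleton ((EtCoh.stalk ξ).obj G)) :
    IsZero G := by
  have hsec : ∀ (U : X.Etale) (s : G.obj.obj (op U)), s = 0 := fun U s => by
    haveI : AlgebraicGeometry.Etale U.hom := U.prop
    refine AbLocEq.eq_of_aEq G fun z => ?_
    let O := {z : U.left | AbLocEq.AEq G.obj s 0 z}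
    have hO : IsOpen O := AbLocEq.isOpen_aEq s 0
    have hcl : ∀ w : U.left, FinPt (U.hom ≫ g) w → w ∈ O := fun w hw => by
      obtain ⟨Ω, _, _, ξ, t, ht⟩ := EtFound.exists_point_through U w
      refine AbLocEq.aEq_of_germ ξ t (@Subsingleton.elim _ (h Ω ξ ?_) _ _) w (ht _)
      have e : ξ.base (default : Spec (CommRingCat.of Ω)) = U.hom w := by
        refine Eq.trans ?_ (congrArg U.hom (ht default))
        exact (congrArg (fun q : Spec (CommRingCat.of Ω) ⟶ X => q.base default) (CategoryTheory.Over.w t).symm).trans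
          (Scheme.Hom.comp_apply _ _ _)
      rw [e]
      exact finPt_of_comp U.hom g w hw
    by_contra hz
    obtain ⟨w, hw, hwf⟩ := exists_finPt (U.hom ≫ g) hO.isClosed_compl z hz
    exact hw (hcl w hwf)
  rw [IsZero.iff_id_eq_zero]
  refine Sheaf.hom_ext (NatTrans.ext (funext fun U => AddCommGrpCat.ext fun s => ?_))
  exact (hsec U.unop s).trans (hsec U.unop _).symm

/-- maps of sheaves are isomorphisms if they are at the points finite over the base -/
theorem isIso_of_finPt {X Y : Scheme.{u}} (g : X ⟶ Y) [LocallyOfFiniteType g] {F G : EtCoh.Ab X} (a : F ⟶ G)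
    (h : ∀ (Ω : Type u) [Field Ω] [IsSepClosed Ω] (ξ : Spec (CommRingCat.of Ω) ⟶ X),
      FinPt g (ξ.base (default : Spec (CommRingCat.of Ω))) → IsIso ((EtCoh.stalk ξ).map a)) : IsIso a := by
  haveI : Mono a := by
    refine Preadditive.mono_of_kernel_zero (f := a) ?_
    refine IsZero.eq_of_src (isZero_of_finPt g (kernel a) fun Ω _ _ ξ hξ => ?_) _ _
    haveI := h Ω ξ hξ
    exact AddCommGrpCat.subsingleton_of_isZero
      ((isZero_kernel_of_mono ((EtCoh.stalk ξ).map a)).of_iso (PreservesKernel.iso (EtCoh.stalk ξ) a))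
  haveI : Epi a := by
    refine Preadditive.epi_of_cokernel_zero (f := a) ?_
    refine IsZero.eq_of_tgt (isZero_of_finPt g (cokernel a) fun Ω _ _ ξ hξ => ?_) _ _
    haveI := h Ω ξ hξ
    exact AddCommGrpCat.subsingleton_of_isZero
      ((isZero_cokernel_of_epi ((EtCoh.stalk ξ).map a)).of_iso (PreservesCokernel.iso (EtCoh.stalk ξ) a))
  exact isIso_of_mono_of_epi a


section stalk

variable {X Y : Scheme.{u}} (g : X ⟶ Y) {L : Set ℕ} {n : ℕ} {U P : Scheme.{u}} (i : U ⟶ Y) [IsOpenImmersion i]
  [QuasiCompact i] {j : P ⟶ X} {e : P ⟶ U} (c : IsPullback e j i g) [PreservesFiniteLimits (EtCoh.pull e)]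

set_option maxHeartbeats 1000000 in
/-- one stalk of the base change maps along quasi-compact open immersions -/
theorem isIso_stalk_bcQ {Ω : Type u} [Field Ω] [IsSepClosed Ω] (ξ : Spec (CommRingCat.of Ω) ⟶ X)
    (hac : ∀ (x : X), x = ξ.base (default : Spec (CommRingCat.of Ω)) →
      ∀ (RS RX : Type u) [CommRing RS] [IsLocalRing RS] [CommRing RX] [IsLocalRing RX]
        [Algebra (Y.presheaf.stalk (g.base x)) RS] [IsLocalHom (algebraMap (Y.presheaf.stalk (g.base x)) RS)]
        [Hensel.IsStrictHenselization (Y.presheaf.stalk (g.base x)) RS]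
        [Algebra (X.presheaf.stalk x) RX] [IsLocalHom (algebraMap (X.presheaf.stalk x) RX)]
        [Hensel.IsStrictHenselization (X.presheaf.stalk x) RX] (ψ : RS →+* RX) [IsLocalHom ψ],
        Spec.map (CommRingCat.ofHom ψ) ≫ Hens2.specOf Y (g.base x) RS = Hens2.specOf X x RX ≫ g →
          EtAcyc.IsAcyclicN (Spec.map (CommRingCat.ofHom ψ)) L n)
    (F : EtCoh.Ab U) (hF : EtAcyc.IsLTorsion L F) (q : ℕ) (hq : q ≤ n) :
    IsIso ((EtCoh.stalk ξ).map (EtBC.bcQ i g j e c.w q F)) := by
  obtain ⟨x, RX, _, _, _, _, _, τ, rfl⟩ := exists_strict_point ξ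
  have hx : x = (resPt RX τ ≫ Hens2.specOf X x RX).base (default : Spec (CommRingCat.of Ω)) :=
    ((Scheme.Hom.comp_apply _ _ _).trans ((congrArg (Hens2.specOf X x RX) (resPt_base RX τ _)).trans
      (UnitStalk.specMap_closed x _))).symm
  obtain ⟨RS, _, _, _, _, _⟩ := S0537.result (Y.presheaf.stalk (g.base x))
  obtain ⟨ψ, _, hψ⟩ := AcycCover.exists_strictMap g x RS RX
  let π := Hens2.specOf Y (g.base x) RS
  let h := Spec.map (CommRingCat.ofHom ψ)
  have hspec : h ≫ π = Hens2.specOf X x RX ≫ g := specOf_map x RS RX ψ hψ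
  let PS := pullback i π
  let aS : PS ⟶ U := pullback.fst i π
  let bS : PS ⟶ Spec (CommRingCat.of RS) := pullback.snd i π
  haveI : IsOpenImmersion bS := MorphismProperty.pullback_snd _ _ inferInstance
  let W : (Spec (CommRingCat.of RS)).Etale := Scheme.Etale.mk bS
  let PX := pullback bS h
  let m : PX ⟶ PS := pullback.fst bS h
  let bX : PX ⟶ Spec (CommRingCat.of RX) := pullback.snd bS h
  have hX : IsPullback (m ≫ aS) bX i (Hens2.specOf X x RX ≫ g) := by
    rw [← hspec]
    exact (IsPullback.of_hasPullback bS h).paste_horiz (IsPullback.of_hasPullback i π)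
  haveI : PreservesFiniteLimits (EtCoh.pull m) := pull_preservesFiniteLimits _
  haveI : PreservesFiniteLimits (EtCoh.pull (EtAcyc.prj h W)) := pull_preservesFiniteLimits _
  have hc : Function.Bijective (EtCore.Hpull m ((EtCoh.pull aS).obj F) q) :=
    ((hac x hx RS RX ψ hspec) W ((EtCoh.pull aS).obj F) (isLTorsion_pull aS L hF)).1 q hq
  haveI : IsIso (appOf (θPull m aS (m ≫ aS) rfl) F) := by delta appOf; infer_instance
  refine (isIso_stalk_iff_HpullVia c x RS RX ψ hψ τ PS PX aS bS (IsPullback.of_hasPullback i π) (m ≫ aS) bX hX m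
    rfl pullback.condition F q).2 ?_
  have key : Function.Bijective (fun ξ => EtCore.HpullVia m aS (m ≫ aS) rfl F q ξ) := by
    rw [show (fun ξ => EtCore.HpullVia m aS (m ≫ aS) rfl F q ξ) = _ from
      funext fun ξ => HpullVia_eq m aS (m ≫ aS) rfl F q ξ]
    exact (hmap_bijective (appOf (θPull m aS (m ≫ aS) rfl) F) q).comp hc
  exact key

end stalk

/-- the geometric fibres at the points of affine lines finite over the base -/
def CoreAcyc (ℓ n : ℕ) : Prop :=
  ∀ (A : Type u) [CommRing A], IsUnit (ℓ : A) →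
    ∀ (x : Spec (CommRingCat.of (Polynomial A))),
      FinPt (Spec.map (CommRingCat.ofHom (Polynomial.C : A →+* Polynomial A))) x →
    ∀ (RY RX : Type u) [CommRing RY] [IsLocalRing RY] [CommRing RX] [IsLocalRing RX]
      [Algebra ((Spec (CommRingCat.of A)).presheaf.stalk
        ((Spec.map (CommRingCat.ofHom (Polynomial.C : A →+* Polynomial A))).base x)) RY]
      [IsLocalHom (algebraMap ((Spec (CommRingCat.of A)).presheaf.stalk
        ((Spec.map (CommRingCat.ofHom (Polynomial.C : A →+* Polynomial A))).base x)) RY)]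
      [Hensel.IsStrictHenselization ((Spec (CommRingCat.of A)).presheaf.stalk
        ((Spec.map (CommRingCat.ofHom (Polynomial.C : A →+* Polynomial A))).base x)) RY]
      [Algebra ((Spec (CommRingCat.of (Polynomial A))).presheaf.stalk x) RX]
      [IsLocalHom (algebraMap ((Spec (CommRingCat.of (Polynomial A))).presheaf.stalk x) RX)]
      [Hensel.IsStrictHenselization ((Spec (CommRingCat.of (Polynomial A))).presheaf.stalk x) RX]
      (ψ : RY →+* RX) [IsLocalHom ψ],
      ψ.comp (algebraMap ((Spec (CommRingCat.of A)).presheaf.stalk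
          ((Spec.map (CommRingCat.ofHom (Polynomial.C : A →+* Polynomial A))).base x)) RY) =
        (algebraMap ((Spec (CommRingCat.of (Polynomial A))).presheaf.stalk x) RX).comp
          ((Spec.map (CommRingCat.ofHom (Polynomial.C : A →+* Polynomial A))).stalkMap x).hom →
      EtAcyc.GeomFibresAcyclicN ({ℓ} : Set ℕ) n (Spec.map (CommRingCat.ofHom ψ))

/-- the morphism of the affine line -/
noncomputable abbrev lineMap (A : Type u) [CommRing A] : Spec (CommRingCat.of (Polynomial A)) ⟶ Spec (CommRingCat.of A) :=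
  Spec.map (CommRingCat.ofHom (Polynomial.C : A →+* Polynomial A))

theorem flat_lineMap (A : Type u) [CommRing A] : Flat (lineMap A) :=
  HasRingHomProperty.Spec_iff.2 (RingHom.flat_algebraMap_iff.2 (inferInstance : Module.Flat A (Polynomial A)))

theorem finiteType_lineMap (A : Type u) [CommRing A] : LocallyOfFiniteType (lineMap A) :=
  HasRingHomProperty.Spec_iff.2 (RingHom.finiteType_algebraMap.2 (inferInstance : Algebra.FiniteType A (Polynomial A)))

/-- strict localizations of strict localizations of flat morphisms are surjective -/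
theorem surjective_strictMap {X Y : Scheme.{u}} (g : X ⟶ Y) [Flat g] :
    EtAcyc.OnStrictLocalizations g fun _ _ h => Surjective h := by
  intro x RY RX _ _ _ _ _ _ _ _ _ _ _ _ hc
  haveI : Module.Flat RY RX := RingHom.flat_algebraMap_iff.1
    ((HasRingHomProperty.Spec_iff (P := @Flat)).1 (FlatShConn.flat_strictMap g x RY RX hc))
  haveI : Module.FaithfullyFlat RY RX := Module.FaithfullyFlat.of_flat_of_isLocalHom
  exact ⟨fun p => PrimeSpectrum.comap_surjective_of_faithfullyFlat (B := RX) p⟩

set_option maxHeartbeats 1000000 in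
/-- the strict localizations at the points finite over the base are acyclic -/
theorem isAcyclicN_finPt {ℓ : ℕ} (hℓ : ℓ.Prime) (n : ℕ) (H : CoreAcyc.{u} ℓ n) {A : Type u} [CommRing A]
    (hu : IsUnit (ℓ : A)) (hlow : ∀ m, m < n → EtAcyc.IsLocAcyclicN (lineMap A) ({ℓ} : Set ℕ) m)
    {X' Y' : Scheme.{u}} {g₁ : X' ⟶ Y'} {p : X' ⟶ Spec (CommRingCat.of (Polynomial A))}
    {i : Y' ⟶ Spec (CommRingCat.of A)} [LocallyQuasiFinite i] [LocallyOfFiniteType i]
    (sq : IsPullback p g₁ (lineMap A) i) (x : X') (hx : FinPt g₁ x)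
    (RS RX : Type u) [CommRing RS] [IsLocalRing RS] [CommRing RX] [IsLocalRing RX]
    [Algebra (Y'.presheaf.stalk (g₁.base x)) RS] [IsLocalHom (algebraMap (Y'.presheaf.stalk (g₁.base x)) RS)]
    [Hensel.IsStrictHenselization (Y'.presheaf.stalk (g₁.base x)) RS]
    [Algebra (X'.presheaf.stalk x) RX] [IsLocalHom (algebraMap (X'.presheaf.stalk x) RX)]
    [Hensel.IsStrictHenselization (X'.presheaf.stalk x) RX] (ψ : RS →+* RX) [IsLocalHom ψ]
    (hspec : Spec.map (CommRingCat.ofHom ψ) ≫ Hens2.specOf Y' (g₁.base x) RS = Hens2.specOf X' x RX ≫ g₁) :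
    EtAcyc.IsAcyclicN (Spec.map (CommRingCat.ofHom ψ)) ({ℓ} : Set ℕ) n := by
  have hL : ∃ p ∈ ({ℓ} : Set ℕ), p.Prime := ⟨ℓ, Set.mem_singleton ℓ, hℓ⟩
  haveI := flat_lineMap A
  haveI := finiteType_lineMap A
  haveI : Flat g₁ := MorphismProperty.of_isPullback (P := @Flat) sq inferInstance
  have hfp : FinPt (lineMap A) (p x) := by
    have h2 : FinPt (g₁ ≫ i) x := finPt_comp g₁ i x hx (finPt_of_quasiFinite i _)
    rw [← sq.w] at h2
    exact finPt_of_comp p (lineMap A) x h2
  have hψ := AcycBase.comp_eq_of_specOf g₁ x ψ hspec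
  have hfib : EtAcyc.GeomFibresAcyclicN ({ℓ} : Set ℕ) n (Spec.map (CommRingCat.ofHom ψ)) := by
    letI : Algebra RS RX := ψ.toAlgebra
    haveI : IsLocalHom (algebraMap RS RX) := ‹IsLocalHom ψ›
    obtain ⟨RS₀, RX₀, _, _, _, _, _, _, _, _, _, _, χ, _, φ, ψ', hχ, hsq, hφ⟩ :=
      AcycBase.exists_isPullback_strict sq x RS RX hψ
    exact AcycBase.geomFibres_of_integral_baseChange φ hφ hsq (H A hu (p x) hfp RS₀ RX₀ χ hχ)
  have hρ : IndEtStrict.Transfers (Hens2.specOf Y' (g₁.base x) RS) := by
    have := (IndEtStrict.isChart_specOf_comp (𝟙 Y') (g₁.base x) RS).transfers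
    rwa [Category.comp_id] at this
  have ha : IndEtStrict.Transfers (Hens2.specOf X' x RX) := by
    have := (IndEtStrict.isChart_specOf_comp (𝟙 X') x RX).transfers
    rwa [Category.comp_id] at this
  refine AcycCover.isAcyclicN_of_fibres _ _ n hfib
    (AcycCover.onStrictLocalizations_square hρ ha hspec.symm (surjective_strictMap g₁)) fun m hm => ?_
  exact AcycCover.onStrictLocalizations_square hρ ha hspec.symm
    (AcycBase.isLocAcyclicN_baseChange sq hL (hlow m hm))

set_option maxHeartbeats 1000000 in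
/-- the affine line is locally acyclic -/
theorem isLocAcyclicN_line {ℓ : ℕ} (hℓ : ℓ.Prime) (H : ∀ n, CoreAcyc.{u} ℓ n) :
    ∀ (n : ℕ) (A : Type u) [CommRing A], IsUnit (ℓ : A) → EtAcyc.IsLocAcyclicN (lineMap A) ({ℓ} : Set ℕ) n := by
  intro n
  induction n using Nat.strong_induction_on with
  | _ n ih =>
    intro A _ hu
    have hL : ∃ p ∈ ({ℓ} : Set ℕ), p.Prime := ⟨ℓ, Set.mem_singleton ℓ, hℓ⟩
    haveI := finiteType_lineMap A
    have hBC : AcycBase.OpenBC (lineMap A) ({ℓ} : Set ℕ) n := by
      intro Y' i hi hi' Y'' i' hi'' hqc _ F hF q hq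
      haveI := hi
      haveI := hi'
      haveI := hi''
      haveI := hqc
      haveI : LocallyOfFiniteType (pullback.snd (lineMap A) i) := MorphismProperty.pullback_snd _ _ inferInstance
      refine isIso_of_finPt (pullback.snd (lineMap A) i) _ fun Ω _ _ ξ hξ => ?_
      refine isIso_stalk_bcQ (pullback.snd (lineMap A) i) i'
        (IsPullback.of_hasPullback (pullback.snd (lineMap A) i) i').flip ξ
        (fun x hx RS RX _ _ _ _ _ _ _ _ _ _ ψ _ hspec => ?_) F hF q hq
      exact isAcyclicN_finPt hℓ n (H n) hu (fun m hm => ih m hm A hu) (IsPullback.of_hasPullback (lineMap A) i) x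
        (hx ▸ hξ) RS RX ψ hspec
    refine (S3471.result (lineMap A) _ hL n).2 ?_
    intro x RY RX _ _ _ _ _ _ _ _ _ _ _ _ hc
    exact AcycBase.geomFibres hBC x RY RX (algebraMap RY RX) (specOf_map x RY RX (algebraMap RY RX) hc) hL

set_option maxHeartbeats 1000000 in
/-- the affine line over any ring -/
theorem lineAcyc {ℓ : ℕ} (hℓ : ℓ.Prime) (H : ∀ n, CoreAcyc.{u} ℓ n) (n : ℕ) : LineAcyc.{u} ℓ n := by
  intro A _ x RY RX _ _ _ _ _ _ _ _ _ _ _ _ hc hu
  let g := lineMap A
  let y : PrimeSpectrum A := g x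
  have hy : (ℓ : A) ∉ y.asIdeal := fun hmem => by
    have h1 : IsUnit (ℓ : RY) := by
      simpa using hu.map (Scheme.ΓSpecIso (CommRingCat.of RY)).hom.hom
    have h2 : IsUnit (ℓ : (Spec (CommRingCat.of A)).presheaf.stalk (g x)) :=
      (isUnit_map_iff (algebraMap ((Spec (CommRingCat.of A)).presheaf.stalk (g x)) RY) _).1 (by simpa using h1)
    have h3 : IsUnit (algebraMap A (Localization.AtPrime y.asIdeal) (ℓ : A)) := by
      rw [map_natCast]
      simpa using h2.map (Spec.stalkIso (CommRingCat.of A) y).hom.hom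
    exact (IsLocalization.AtPrime.isUnit_to_map_iff _ y.asIdeal (ℓ : A)).1 h3 hmem
  let A' := Localization.Away (ℓ : A)
  let φ : A →+* A' := algebraMap A A'
  let μ : Polynomial A →+* Polynomial A' := Polynomial.mapRingHom φ
  let ρ := Spec.map (CommRingCat.ofHom φ)
  let a := Spec.map (CommRingCat.ofHom μ)
  haveI : IsOpenImmersion ρ := IsOpenImmersion.of_isLocalization (ℓ : A)
  have hμ : CommRingCat.ofHom (Polynomial.C : A →+* Polynomial A) ≫ CommRingCat.ofHom μ =
      CommRingCat.ofHom φ ≫ CommRingCat.ofHom (Polynomial.C : A' →+* Polynomial A') := by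
    exact CommRingCat.hom_ext (RingHom.ext fun r => Polynomial.map_C φ)
  letI : Algebra (Polynomial A) (Polynomial A') := μ.toAlgebra
  haveI : IsLocalization.Away (Polynomial.C (ℓ : A)) (Polynomial A') := by
    have := Polynomial.isLocalization (Submonoid.powers (ℓ : A)) A'
    rwa [Submonoid.map_powers] at this
  haveI : IsOpenImmersion a := IsOpenImmersion.of_isLocalization (Polynomial.C (ℓ : A))
  obtain ⟨p, hp⟩ : x ∈ Set.range a := by
    have hr : Set.range a = (PrimeSpectrum.basicOpen (Polynomial.C (ℓ : A)) : Set (PrimeSpectrum (Polynomial A))) :=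
      PrimeSpectrum.localization_away_comap_range (Polynomial A') (Polynomial.C (ℓ : A))
    rw [hr]
    exact hy
  subst hp
  have w : a ≫ g = lineMap A' ≫ ρ := by
    show Spec.map _ ≫ Spec.map _ = Spec.map _ ≫ Spec.map _
    rw [← Spec.map_comp, ← Spec.map_comp, hμ]
  have hu' : IsUnit (ℓ : A') := by
    have := IsLocalization.Away.algebraMap_isUnit (S := A') (ℓ : A)
    simpa using this
  exact onStrict_of_chart w (Q := fun _ _ h => EtAcyc.IsAcyclicN h ({ℓ} : Set ℕ) n)
    (isLocAcyclicN_line hℓ H n A' hu') p RY RX (algebraMap RY RX) (specOf_map _ RY RX (algebraMap RY RX) hc)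

end Groth.Agent.SmAcyc
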