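import Groth.Agent.SmAcyc.Cor
import Groth.Agent.UnitStalk.StrictPullback

/-!
# The given maps of strict localizations of a smooth morphism
-/

set_option autoImplicit false
set_option linter.style.haveILetI false
set_option backward.isDefEq.respectTransparency.types false

universe u

open CategoryTheory CategoryTheory.Limits AlgebraicGeometry Opposite IsLocalRing

namespace Groth.Agent.SmAcyc

open Groth.Agent.EtFound

/-- the lift of a strict localization to the base change is a chart -/
theorem isChart_lift {X S X' : Scheme.{u}} (f : X ⟶ S) {x : X} {s : S}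
    (RS : Type u) [CommRing RS] [IsLocalRing RS] [Algebra (S.presheaf.stalk s) RS]
    [IsLocalHom (algebraMap (S.presheaf.stalk s) RS)] [Hensel.IsStrictHenselization (S.presheaf.stalk s) RS]
    (RX : Type u) [CommRing RX] [IsLocalRing RX] [Algebra (X.presheaf.stalk x) RX]
    [IsLocalHom (algebraMap (X.presheaf.stalk x) RX)] [Hensel.IsStrictHenselization (X.presheaf.stalk x) RX]
    {p : X' ⟶ X} {f' : X' ⟶ Spec (CommRingCat.of RS)} (cX : IsPullback p f' f (Hens2.specOf S s RS))
    (ψ : RS →+* RX) [IsLocalHom ψ] (q : Spec (CommRingCat.of RX) ⟶ X')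
    (hqp : q ≫ p = Hens2.specOf X x RX) (hqs : q ≫ f' = Spec.map (CommRingCat.ofHom ψ))
    (v : X') (hv : q (closedPoint RX) = v) (hx : p v = x) (hs : f (p v) = s) :
    IndEtStrict.IsChart q := by
  subst hx
  subst hs
  have hx' : f' v = closedPoint RS := by
    rw [← hv]
    exact (Scheme.Hom.comp_apply _ _ _).symm.trans ((congrArg (fun t : Spec (CommRingCat.of RX) ⟶ Spec (CommRingCat.of RS) => t (closedPoint RX)) hqs).trans
      (IsLocalRing.comap_closedPoint ψ))
  obtain ⟨α', hα', hα'e⟩ := UnitStalk.exists_stalk_hom q (x := v) hv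
  haveI hι : IsLocalHom (p.stalkMap v).hom := inferInstanceAs (IsLocalHom (p.stalkMap v).hom)
  have hc : α'.comp (p.stalkMap v).hom = algebraMap (X.presheaf.stalk (p v)) RX :=
    UnitStalk.hom_eq_of_fromSpecStalk _ _ _ (by
      rw [UnitStalk.specMap_fromSpecStalk, ← Category.assoc, hα'e]
      exact hqp)
  letI : Algebra (X'.presheaf.stalk v) RX := α'.toAlgebra
  haveI : IsLocalHom (algebraMap (X'.presheaf.stalk v) RX) := hα'
  haveI : Hensel.IsStrictHenselization (X'.presheaf.stalk v) RX :=
    StrictModel13.isStrictHenselization_of_rigid _ hc fun T _ _ f₁ f₂ _ _ h hr =>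
      UnitStalk.eq_of_residue f cX hx' f₁ f₂ h hr
  have h := IndEtStrict.isChart_specOf_comp (𝟙 X') v RX
  rw [Category.comp_id] at h
  rw [show q = Hens2.specOf X' v RX from hα'e.symm]
  exact h

/-- a chart of a universally locally acyclic scheme over a base gives the local acyclicity of all base changes -/
theorem bcLoc_of_chart {S Q T : Scheme.{u}} (ρ : Q ⟶ S) (q : T ⟶ Q) (h : T ⟶ S) (hq2 : q ≫ ρ = h)
    (hchart : IndEtStrict.IsChart q) {L : Set ℕ} {n : ℕ} (hρ : EtAcyc.IsULocAcyclicN ρ L n) :
    UBC.BCLoc h L n := by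
  intro P a
  let Q' := pullback a ρ
  have hloc : EtAcyc.IsLocAcyclicN (pullback.fst a ρ) L n :=
    hρ _ (pullback.snd a ρ) a (IsPullback.of_hasPullback a ρ).flip
  have hl : pullback.fst a h ≫ a = (pullback.snd a h ≫ q) ≫ ρ := by
    rw [pullback.condition, Category.assoc]
    exact congrArg (pullback.snd a h ≫ ·) hq2.symm
  let l : pullback a h ⟶ Q' := pullback.lift _ _ hl
  have hl1 : l ≫ pullback.fst a ρ = pullback.fst a h := pullback.lift_fst _ _ _
  have sq : IsPullback l (pullback.snd a h) (pullback.snd a ρ) q := by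
    refine (IsPullback.of_bot (h₃₁ := a) ?_ (pullback.lift_snd _ _ _).symm (IsPullback.of_hasPullback a ρ).flip).flip
    rw [hl1, hq2]
    exact (IsPullback.of_hasPullback a h).flip
  exact AcycCover.onStrictLocalizations_square (UBC.transfers_id P) (hchart.transfers_pullback sq)
    (hl1.trans (Category.comp_id _).symm) hloc

variable {X S : Scheme.{u}} (f : X ⟶ S) (x : X)
  (RS RX : Type u) [CommRing RS] [CommRing RX] [IsLocalRing RS] [IsLocalRing RX]
  [Algebra (S.presheaf.stalk (f.base x)) RS] [IsLocalHom (algebraMap (S.presheaf.stalk (f.base x)) RS)]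
  [Hensel.IsStrictHenselization (S.presheaf.stalk (f.base x)) RS]
  [Algebra (X.presheaf.stalk x) RX] [IsLocalHom (algebraMap (X.presheaf.stalk x) RX)]
  [Hensel.IsStrictHenselization (X.presheaf.stalk x) RX]
  [Algebra RS RX] [IsLocalHom (algebraMap RS RX)]
  (hc : (algebraMap RS RX).comp (algebraMap (S.presheaf.stalk (f.base x)) RS) =
    (algebraMap (X.presheaf.stalk x) RX).comp (f.stalkMap x).hom)

include hc in
/-- universal local acyclicity over the strict localization of the base gives it for the given map -/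
theorem bcLoc_of_compatible {L : Set ℕ} {n : ℕ}
    (hρ : EtAcyc.IsULocAcyclicN (pullback.snd f (Hens2.specOf S (f.base x) RS)) L n) :
    UBC.BCLoc (Spec.map (CommRingCat.ofHom (algebraMap RS RX))) L n := by
  let π := Hens2.specOf S (f.base x) RS
  let h := Spec.map (CommRingCat.ofHom (algebraMap RS RX))
  let ρ := pullback.snd f π
  have he : Hens2.specOf X x RX ≫ f = h ≫ π := (Groth.Agent.EtBC.specOf_map x RS RX (algebraMap RS RX) hc).symm
  let q : Spec (CommRingCat.of RX) ⟶ pullback f π := pullback.lift (Hens2.specOf X x RX) h he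
  have hq1 : q ≫ pullback.fst f π = Hens2.specOf X x RX := pullback.lift_fst _ _ _
  have hq2 : q ≫ ρ = h := pullback.lift_snd _ _ _
  have hx : pullback.fst f π (q (closedPoint RX)) = x :=
    (Scheme.Hom.comp_apply _ _ _).symm.trans ((congrArg (fun t : Spec (CommRingCat.of RX) ⟶ X => t (closedPoint RX)) hq1).trans
      (UnitStalk.specMap_closed x _))
  have hchart : IndEtStrict.IsChart q := isChart_lift f RS RX (IsPullback.of_hasPullback f π)
    (algebraMap RS RX) q hq1 hq2 _ rfl hx (congrArg f.base hx)
  exact bcLoc_of_chart ρ q h hq2 hchart hρ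

include hc in
/-- the case of a smooth morphism -/
theorem bcLoc_smooth (hcd : AffineCurveCd.{u}) [Smooth f] (n : ℕ) :
    UBC.BCLoc (Spec.map (CommRingCat.ofHom (algebraMap RS RX)))
      (EtAcyc.primesInvertibleOn (Spec (CommRingCat.of RS))) n :=
  bcLoc_of_compatible f x RS RX hc
    (haveI : Smooth (pullback.snd f (Hens2.specOf S (f.base x) RS)) :=
        MorphismProperty.pullback_snd _ _ inferInstance
    isULocAcyclic_smooth hcd _ n)

/-- primes invertible in the residue field of a local ring -/
theorem mem_primesInvertibleOn_local {R : Type u} [CommRing R] [IsLocalRing R] {ℓ : ℕ} (hℓ : ℓ.Prime)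
    (h : (ℓ : ResidueField R) ≠ 0) : ℓ ∈ EtAcyc.primesInvertibleOn (Spec (CommRingCat.of R)) := by
  refine ⟨hℓ, fun z h0 => ?_⟩
  have hu : IsUnit (ℓ : R) := by
    by_contra hn
    exact h (by rw [← map_natCast (residue R), (residue_eq_zero_iff _).2 hn])
  have := (hu.map (((Spec (CommRingCat.of R)).evaluation ⊤ z trivial).hom.comp
    (Scheme.ΓSpecIso (CommRingCat.of R)).inv.hom))
  rw [map_natCast] at this
  exact this.ne_zero h0

end Groth.Agent.SmAcyc
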